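import Groth.Prelude.Def_SchFin
import Mathlib.RingTheory.Spectrum.Prime.Topology

/-! # Connectedness: idempotents, and the poset of points -/

set_option autoImplicit false

universe u

open SchFin

namespace K868.SchFin

/-- the spectrum is connected iff the ring is nontrivial and has only trivial idempotents -/
theorem connectedSpace_primeSpectrum_iff (R : Type u) [CommRing R] :
    ConnectedSpace (PrimeSpectrum R) ↔ Nontrivial R ∧ ∀ e : R, IsIdempotentElem e → e = 0 ∨ e = 1 := by
  constructor
  · intro h
    refine ⟨?_, ?_⟩
    · have : Nonempty (PrimeSpectrum R) := h.toNonempty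
      exact PrimeSpectrum.nonempty_iff_nontrivial.1 this
    · intro e he
      have hs := isClopen_iff.1 (PrimeSpectrum.isIdempotentElemEquivClopens ⟨e, he⟩).isClopen
      rcases hs with hs | hs
      · left
        have : PrimeSpectrum.isIdempotentElemEquivClopens ⟨e, he⟩ = ⊥ :=
          TopologicalSpace.Clopens.ext hs
        have h2 := (OrderIso.eq_symm_apply _).2 this
        rw [PrimeSpectrum.isIdempotentElemEquivClopens_symm_bot] at h2
        exact congrArg Subtype.val h2
      · right
        have : PrimeSpectrum.isIdempotentElemEquivClopens ⟨e, he⟩ = ⊤ :=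
          TopologicalSpace.Clopens.ext hs
        have h2 := (OrderIso.eq_symm_apply _).2 this
        rw [PrimeSpectrum.isIdempotentElemEquivClopens_symm_top] at h2
        exact congrArg Subtype.val h2
  · rintro ⟨h1, h2⟩
    have : Nonempty (PrimeSpectrum R) := PrimeSpectrum.nonempty_iff_nontrivial.2 h1
    have : PreconnectedSpace (PrimeSpectrum R) := by
      rw [preconnectedSpace_iff_clopen]
      intro s hs
      let c : TopologicalSpace.Clopens (PrimeSpectrum R) := ⟨s, hs⟩
      let e := PrimeSpectrum.isIdempotentElemEquivClopens.symm c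
      have hc : PrimeSpectrum.isIdempotentElemEquivClopens e = c := OrderIso.apply_symm_apply _ _
      rcases h2 e.1 e.2 with h | h
      · left
        have : e = ⟨(0 : R), .zero⟩ := Subtype.ext h
        rw [← PrimeSpectrum.isIdempotentElemEquivClopens_symm_bot] at this
        have h3 := (EquivLike.injective (PrimeSpectrum.isIdempotentElemEquivClopens (R := R)).symm) this
        exact congrArg (fun t : TopologicalSpace.Clopens (PrimeSpectrum R) => (t : Set (PrimeSpectrum R))) h3
      · right
        have : e = ⟨(1 : R), .one⟩ := Subtype.ext h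
        rw [← PrimeSpectrum.isIdempotentElemEquivClopens_symm_top] at this
        have h3 := (EquivLike.injective (PrimeSpectrum.isIdempotentElemEquivClopens (R := R)).symm) this
        exact congrArg (fun t : TopologicalSpace.Clopens (PrimeSpectrum R) => (t : Set (PrimeSpectrum R))) h3
    exact { toPreconnectedSpace := this, toNonempty := inferInstance }

/-- a relation-invariant predicate on a top-connected space is constant -/
lemma IsTopConnected.induct {X : RSpace.{u}} (h : X.IsTopConnected) (P : X.pt → Prop)
    (hP : ∀ p q : X.pt, p ≤ q → (P p ↔ P q)) (p q : X.pt) : P p ↔ P q := by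
  have := h.2 p q
  induction this with
  | rel a b hab => exact hP a b hab
  | refl a => exact Iff.rfl
  | symm a b _ ih => exact ih.symm
  | trans a b c _ _ ih1 ih2 => exact ih1.trans ih2

/-- well-connected iff top-connected and pointwise connected -/
theorem isWellConnected_iff (X : RSpace.{u}) :
    X.IsWellConnected ↔ (X.IsTopConnected ∧ X.IsPwConnected) := by
  classical
  constructor
  · rintro ⟨h1, h2⟩
    refine ⟨?_, h2⟩
    obtain ⟨hnt, hid⟩ := (connectedSpace_primeSpectrum_iff _).1 h1
    have hpt : Nonempty X.pt := by
      by_contra hne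
      rw [not_nonempty_iff] at hne
      have : (0 : X.sectRing Set.univ) = 1 := Subtype.ext (funext fun q => (hne.false q.1).elim)
      exact zero_ne_one this
    refine ⟨hpt, ?_⟩
    intro p q
    by_contra hpq
    let C : X.pt → Prop := fun r => Relation.EqvGen (fun a b : X.pt => a ≤ b) p r
    have hC : ∀ a b : X.pt, a ≤ b → (C a ↔ C b) := fun a b hab =>
      ⟨fun h => .trans _ _ _ h (.rel _ _ hab), fun h => .trans _ _ _ h (.symm _ _ (.rel _ _ hab))⟩
    let e : X.sectRing Set.univ := ⟨fun r => if C r.1 then 1 else 0, fun a b hab => by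
      by_cases hc : C a.1
      · simp [hc, (hC _ _ hab).1 hc]
      · have hc' : ¬ C b.1 := fun h => hc ((hC _ _ hab).2 h)
        simp [hc, hc']⟩
    have he : IsIdempotentElem e := by
      apply Subtype.ext
      funext r
      change (if C r.1 then (1 : X.ring r.1) else 0) * (if C r.1 then 1 else 0) = if C r.1 then 1 else 0
      split_ifs <;> simp
    rcases hid e he with h0 | h1
    · have h3 := congrFun (congrArg Subtype.val h0) ⟨p, trivial⟩
      change (if C p then (1 : X.ring p) else 0) = 0 at h3
      rw [if_pos (Relation.EqvGen.refl p)] at h3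
      have := ((connectedSpace_primeSpectrum_iff _).1 (h2 p)).1
      exact one_ne_zero h3
    · have h3 := congrFun (congrArg Subtype.val h1) ⟨q, trivial⟩
      change (if C q then (1 : X.ring q) else 0) = 1 at h3
      rw [if_neg hpq] at h3
      have := ((connectedSpace_primeSpectrum_iff _).1 (h2 q)).1
      exact zero_ne_one h3
  · rintro ⟨h1, h2⟩
    refine ⟨?_, h2⟩
    refine (connectedSpace_primeSpectrum_iff _).2 ⟨?_, ?_⟩
    · obtain ⟨p⟩ := h1.1
      have := ((connectedSpace_primeSpectrum_iff _).1 (h2 p)).1
      refine ⟨0, 1, fun h => ?_⟩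
      exact zero_ne_one (congrFun (congrArg Subtype.val h) ⟨p, trivial⟩ : (0 : X.ring p) = 1)
    · intro e he
      obtain ⟨p₀⟩ := h1.1
      have hv : ∀ r : X.pt, e.1 ⟨r, trivial⟩ = 0 ∨ e.1 ⟨r, trivial⟩ = 1 := fun r =>
        ((connectedSpace_primeSpectrum_iff _).1 (h2 r)).2 _
          (congrFun (congrArg Subtype.val he) ⟨r, trivial⟩)
      have hinv : ∀ a b : X.pt, a ≤ b → (e.1 ⟨a, trivial⟩ = 0 ↔ e.1 ⟨b, trivial⟩ = 0) := by
        intro a b hab
        have hr := e.2 ⟨a, trivial⟩ ⟨b, trivial⟩ hab
        constructor
        · intro h
          rw [← hr, h, map_zero]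
        · intro h
          rcases hv a with h' | h'
          · exact h'
          · exfalso
            rw [← hr, h', map_one] at h
            have := ((connectedSpace_primeSpectrum_iff _).1 (h2 b)).1
            exact one_ne_zero h
      by_cases h0 : e.1 ⟨p₀, trivial⟩ = 0
      · left
        apply Subtype.ext
        funext r
        exact (IsTopConnected.induct h1 (fun r => e.1 ⟨r, trivial⟩ = 0) hinv p₀ r.1).1 h0
      · right
        apply Subtype.ext
        funext r
        rcases hv r.1 with h' | h'
        · exact (h0 ((IsTopConnected.induct h1 (fun r => e.1 ⟨r, trivial⟩ = 0) hinv p₀ r.1).2 h')).elim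
        · exact h'

end K868.SchFin
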