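import Groth.Prelude.Def_SchFin
import Mathlib.Algebra.Algebra.Epi

/-! # Degree-zero cohomology of a finite ringed poset, and base-change transport

* `K868.SchFin.h0Equiv`: degree-zero cohomology is the module of sections.
* `K868.SchFin.tensorSect`: in a schematic space `O_a ⊗_{O_s} O_b` is the ring of sections over `up a ∩ up b`.
-/

set_option autoImplicit false

universe u

open TensorProduct SchFin

namespace K868.SchFin

section Transport

variable {R S : Type u} [CommRing R] [CommRing S] (g : R →+* S)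

/-- elementwise description of `IsBCAlong` through a linear equivalence -/
lemma isBCAlong_of_equiv {M N : Type u} [AddCommGroup M] [AddCommGroup N] [Module R M] [Module S N]
    (f : M →ₛₗ[g] N)
    (e : letI : Algebra R S := g.toAlgebra; S ⊗[R] M ≃ₗ[S] N)
    (he : letI : Algebra R S := g.toAlgebra; ∀ m : M, e ((1 : S) ⊗ₜ[R] m) = f m) :
    IsBCAlong g f := by
  letI : Algebra R S := g.toAlgebra
  letI : Module R N := Module.compHom N g
  haveI : IsScalarTower R S N := IsScalarTower.of_algebraMap_smul fun _ _ => rfl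
  exact IsBaseChange.of_equiv e he

/-- the equivalence given by `IsBCAlong` -/
noncomputable def bcEquiv {M N : Type u} [AddCommGroup M] [AddCommGroup N] [Module R M] [Module S N]
    {f : M →ₛₗ[g] N} (h : IsBCAlong g f) :
    letI : Algebra R S := g.toAlgebra; S ⊗[R] M ≃ₗ[S] N := by
  letI : Algebra R S := g.toAlgebra
  letI : Module R N := Module.compHom N g
  haveI : IsScalarTower R S N := IsScalarTower.of_algebraMap_smul fun _ _ => rfl
  exact IsBaseChange.equiv h

lemma bcEquiv_tmul {M N : Type u} [AddCommGroup M] [AddCommGroup N] [Module R M] [Module S N]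
    {f : M →ₛₗ[g] N} (h : IsBCAlong g f) (s : S) (m : M) :
    letI : Algebra R S := g.toAlgebra; bcEquiv g h (s ⊗ₜ[R] m) = s • f m := by
  letI : Algebra R S := g.toAlgebra
  letI : Module R N := Module.compHom N g
  haveI : IsScalarTower R S N := IsScalarTower.of_algebraMap_smul fun _ _ => rfl
  exact IsBaseChange.equiv_tmul h s m

/-- `IsBCAlong` is invariant under isomorphisms of source and target -/
lemma isBCAlong_transport {M N M' N' : Type u} [AddCommGroup M] [AddCommGroup N] [Module R M]
    [Module S N] [AddCommGroup M'] [AddCommGroup N'] [Module R M'] [Module S N']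
    {f : M →ₛₗ[g] N} {f' : M' →ₛₗ[g] N'} (e : M ≃ₗ[R] M') (e' : N ≃ₗ[S] N')
    (h : ∀ m, e' (f m) = f' (e m)) (hf : IsBCAlong g f) : IsBCAlong g f' := by
  letI : Algebra R S := g.toAlgebra
  refine isBCAlong_of_equiv g f'
    ((TensorProduct.AlgebraTensorModule.congr (LinearEquiv.refl S S) e.symm).trans
      ((bcEquiv g hf).trans e')) ?_
  intro m
  change e' (bcEquiv g hf (((1 : S)) ⊗ₜ[R] (e.symm m))) = _
  rw [bcEquiv_tmul, one_smul, h, LinearEquiv.apply_symm_apply]

end Transport

section H0

variable {X : RSpace.{u}} {U : Set X.pt} {R : Type u} [CommRing R] (φ : Coef X U R) (M : OMod X)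

/-- the 0-chain at a point -/
def chain0 (q : U) : Chain U 0 where
  toFun _ := q
  inj' a b _ := Subsingleton.elim (α := Fin 1) a b
  map_rel_iff' {a b} := by
    rw [Subsingleton.elim (α := Fin 1) a b]
    exact ⟨fun _ => le_refl _, fun _ => le_refl _⟩

lemma chain0_eq (σ : Chain U 0) : chain0 (σ (Fin.last 0)) = σ := by
  apply RelEmbedding.ext
  intro i
  change σ _ = σ i
  rw [Subsingleton.elim (α := Fin 1) i (Fin.last 0)]

/-- the 1-chain on a strict pair -/
def chain1 {q q' : U} (h : q < q') : Chain U 1 :=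
  OrderEmbedding.ofStrictMono (fun i : Fin 2 => if i = 0 then q else q') (by
    intro i j hij
    have hi : i = 0 := by
      apply Fin.ext; have := Fin.lt_def.1 hij; have := j.isLt; simp; omega
    have hj : j = 1 := by
      apply Fin.ext; have := Fin.lt_def.1 hij; have := j.isLt; simp; omega
    subst hi; subst hj
    simpa using h)

lemma chain1_zero {q q' : U} (h : q < q') : chain1 h 0 = q := rfl
lemma chain1_one {q q' : U} (h : q < q') : chain1 h 1 = q' := rfl

lemma diff_zero_apply (c : Cochain φ M 0) (σ : Chain U 1) :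
    diff φ M 0 c σ = c.faceVal σ 0 - c.faceVal σ 1 := by
  change (∑ j : Fin 2, ((-1 : ℤ) ^ (j : ℕ)) • c.faceVal σ j) = _
  rw [Fin.sum_univ_two]
  simp [sub_eq_add_neg]

/-- value of a 0-cochain -/
lemma cochain_congr (c : Cochain φ M 0) {σ τ : Chain U 0} (h : σ = τ) {p : U}
    (hσ : (σ (Fin.last 0)).1 ≤ p.1) (hτ : (τ (Fin.last 0)).1 ≤ p.1) :
    M.res hσ (c σ) = M.res hτ (c τ) := by
  subst h; rfl

lemma mem_cocycles_zero_iff (c : Cochain φ M 0) :
    c ∈ cocycles φ M 0 ↔ ∀ (q q' : U) (h : q.1 ≤ q'.1), M.res h (c (chain0 q)) = c (chain0 q') := by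
  constructor
  · intro hc q q' h
    have hc' : diff φ M 0 c = 0 := hc
    rcases eq_or_lt_of_le (show q ≤ q' from h) with rfl | hlt
    · exact M.res_self _ _
    · have h1 := congrFun hc' (chain1 hlt)
      rw [diff_zero_apply] at h1
      have h2 : c.faceVal (chain1 hlt) 0 = c.faceVal (chain1 hlt) 1 := sub_eq_zero.1 h1
      have f0 : (chain1 hlt).face 0 = chain0 q' := by
        apply RelEmbedding.ext; intro i
        change chain1 hlt (Fin.succAbove 0 i) = q'
        rw [Subsingleton.elim (α := Fin 1) i 0]; rfl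
      have f1 : (chain1 hlt).face 1 = chain0 q := by
        apply RelEmbedding.ext; intro i
        change chain1 hlt (Fin.succAbove 1 i) = q
        rw [Subsingleton.elim (α := Fin 1) i 0]; rfl
      have e0 : c.faceVal (chain1 hlt) 0 = c (chain0 q') := by
        unfold Cochain.faceVal
        have := cochain_congr φ M c f0 (p := q') (Chain.face_last_le 0 (chain1 hlt)) (le_refl q'.1)
        exact this.trans (M.res_self _ _)
      have e1 : c.faceVal (chain1 hlt) 1 = M.res h (c (chain0 q)) := by
        unfold Cochain.faceVal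
        exact cochain_congr φ M c f1 (p := q') (Chain.face_last_le 1 (chain1 hlt)) h
      rw [← e1, ← e0, h2]
  · intro hc
    change diff φ M 0 c = 0
    funext σ
    rw [diff_zero_apply]
    change _ = (0 : M.carrier _)
    rw [sub_eq_zero]
    have key : ∀ j : Fin 2, c.faceVal σ j = c (chain0 (σ (Fin.last 1))) := by
      intro j
      unfold Cochain.faceVal
      have h1 := hc ((σ.face j) (Fin.last 0)) (σ (Fin.last 1)) (Chain.face_last_le j σ)
      rw [← h1]
      exact cochain_congr φ M c (chain0_eq _).symm (p := σ (Fin.last 1)) _ _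
    rw [key, key]

/-- the cocycle attached to a section -/
def toCocycle (s : M.sect U) : cocycles φ M 0 :=
  ⟨fun σ => s.1 (σ (Fin.last 0)), (mem_cocycles_zero_iff φ M _).2 fun q q' h => s.2 q q' h⟩

/-- Degree-zero cohomology is the module of sections (additive equivalence). -/
noncomputable def h0Equiv : M.sect U ≃+ H φ M 0 := by
  refine AddEquiv.ofBijective
    (AddMonoidHom.mk' (fun s => H.mk φ M 0 (toCocycle φ M s)) ?_) ⟨?_, ?_⟩
  · intro s t
    rw [← map_add]
    rfl
  · rw [injective_iff_map_eq_zero]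
    intro s hs
    have h1 : H.mk φ M 0 (toCocycle φ M s) = 0 := hs
    have h2 : toCocycle φ M s ∈ (cobdry φ M 0).comap (cocycles φ M 0).subtype :=
      (Submodule.Quotient.mk_eq_zero _).1 h1
    have h3 : (toCocycle φ M s).1 = 0 := h2
    apply Subtype.ext
    funext q
    exact congrFun h3 (chain0 q)
  · intro x
    obtain ⟨c, rfl⟩ := Submodule.mkQ_surjective _ x
    refine ⟨⟨fun q => c.1 (chain0 q), fun q q' h => (mem_cocycles_zero_iff φ M c.1).1 c.2 q q' h⟩, ?_⟩
    change H.mk φ M 0 _ = H.mk φ M 0 c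
    congr 1
    apply Subtype.ext
    funext σ
    have h := cochain_congr φ M c.1 (chain0_eq σ) (p := σ (Fin.last 0)) (le_refl _) (le_refl _)
    exact ((M.res_self _ _).symm.trans h).trans (M.res_self _ _)

lemma h0Equiv_apply (s : M.sect U) : h0Equiv φ M s = H.mk φ M 0 (toCocycle φ M s) := rfl

/-- linearity of `h0Equiv` -/
lemma h0Equiv_smul (r : R) (s t : M.sect U) (h : ∀ q, t.1 q = φ.map q r • s.1 q) :
    h0Equiv φ M t = r • h0Equiv φ M s := by
  rw [h0Equiv_apply, h0Equiv_apply, ← map_smul]
  congr 1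
  apply Subtype.ext
  funext σ
  exact h _

variable {φ} {U' : Set X.pt} {R' : Type u} [CommRing R'] {φ' : Coef X U' R'}

/-- restriction in degree-zero cohomology is restriction of sections -/
lemma resH_h0Equiv (s : Coef.Sub φ φ') (a : M.sect U) (b : M.sect U')
    (h : ∀ q : U', b.1 q = a.1 ⟨q.1, s.le q.2⟩) :
    resH M s 0 (h0Equiv φ M a) = h0Equiv φ' M b := by
  rw [h0Equiv_apply, h0Equiv_apply]
  change H.mk φ' M 0 _ = H.mk φ' M 0 _
  congr 1
  apply Subtype.ext
  funext σ
  exact (h _).symm

end H0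

section Deg0

variable {X : RSpace.{u}}

/-- Restriction of sections `O_b → O(U)`, for `U ⊆ up b`, together with the ring `O_a`; in a schematic
space with `s ≤ a`, `s ≤ b`, the ring of sections over `up a ∩ up b` is `O_a ⊗_{O_s} O_b`. -/
theorem isBCAlong_inter (hX : X.IsSchematic) {s a b : X.pt} (ha : s ≤ a) (hb : s ≤ b)
    (U : Set X.pt) (hU : U = X.up a ∩ X.up b)
    (hUa : U ⊆ X.up a) (hUb : U ⊆ X.up b) :
    letI : Module (X.ring s) (X.ring b) := Module.compHom _ (X.res hb)
    letI : Module (X.ring a) (X.sectRing U) := Module.compHom _ (X.resSect a U hUa)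
    IsBCAlong (X.res ha)
      ({ toFun := X.resSect b U hUb
         map_add' := map_add _
         map_smul' := fun r x => by
          apply Subtype.ext
          funext q
          change X.res (hUb q.2) (X.res hb r * x) = X.res (hUa q.2) (X.res ha r) * X.res (hUb q.2) x
          rw [map_mul, X.res_comp, X.res_comp] } :
        X.ring b →ₛₗ[X.res ha] X.sectRing U) := by
  subst hU
  letI : Module (X.ring s) (X.ring b) := Module.compHom _ (X.res hb)
  letI : Module (X.ring a) (X.sectRing (X.up a ∩ X.up b)) :=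
    Module.compHom _ (X.resSect a (X.up a ∩ X.up b) hUa)
  have key := (hX.2.2 0 s a ha b b (le_refl b)).1
  let W : Set X.pt := (Hom.id X).wedge s b
  have hWb : ∀ q : W, b ≤ q.1 := fun q => q.2.2
  have hbW : b ∈ W := ⟨hb, le_refl b⟩
  -- the equivalence O_b ≃ sections over W
  let φ := Coef.ofLE s W ((Hom.id X).wedge_subset_up s b)
  let φ' := Coef.ofLE a ((Hom.id X).wedge a b) ((Hom.id X).wedge_subset_up a b)
  let toS : X.ring b → X.str.sect W := fun x => ⟨fun q => X.res (hWb q) x, fun q q' h => X.res_comp _ _ x⟩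
  let e₀ : X.ring b ≃+ X.str.sect W := by
    refine AddEquiv.ofBijective (AddMonoidHom.mk' toS ?_) ⟨?_, ?_⟩
    · intro x y
      apply Subtype.ext; funext q
      exact map_add (X.res (hWb q)) x y
    · intro x y hxy
      have := congrFun (congrArg Subtype.val hxy) ⟨b, hbW⟩
      change X.res (le_refl b) x = X.res (le_refl b) y at this
      rwa [X.res_self, X.res_self] at this
    · intro t
      refine ⟨t.1 ⟨b, hbW⟩, ?_⟩
      apply Subtype.ext; funext q
      exact t.2 ⟨b, hbW⟩ q (hWb q)
  let e : H φ X.str 0 ≃ₗ[X.ring s] X.ring b :=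
    (AddEquiv.toLinearEquiv (e₀.trans (h0Equiv φ X.str)) (by
      intro r x
      change h0Equiv φ X.str (toS (X.res hb r * x)) = r • h0Equiv φ X.str (toS x)
      apply h0Equiv_smul
      intro q
      change X.res (hWb q) (X.res hb r * x) = X.res _ r * X.res (hWb q) x
      rw [map_mul, X.res_comp])).symm
  let e₀' : X.sectRing (X.up a ∩ X.up b) ≃+ X.str.sect ((Hom.id X).wedge a b) :=
    { toFun := fun t => ⟨t.1, t.2⟩
      invFun := fun t => ⟨t.1, t.2⟩
      left_inv := fun _ => rfl
      right_inv := fun _ => rfl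
      map_add' := fun _ _ => rfl }
  let e' : H φ' X.str 0 ≃ₗ[X.ring a] X.sectRing (X.up a ∩ X.up b) :=
    (AddEquiv.toLinearEquiv (e₀'.trans (h0Equiv φ' X.str)) (by
      intro r x
      change h0Equiv φ' X.str (e₀' (X.resSect a (X.up a ∩ X.up b) hUa r * x)) = r • h0Equiv φ' X.str (e₀' x)
      apply h0Equiv_smul
      intro q
      rfl)).symm
  refine isBCAlong_transport (X.res ha) e e' ?_ key
  intro m
  obtain ⟨x, rfl⟩ := e.symm.surjective m
  rw [LinearEquiv.apply_symm_apply, ← LinearEquiv.eq_symm_apply]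
  change resH X.str ((Hom.id X).subSrc ha b) 0 (h0Equiv φ X.str (toS x)) =
    h0Equiv φ' X.str (e₀' (X.resSect b (X.up a ∩ X.up b) hUb x))
  apply resH_h0Equiv
  intro q
  rfl

/-- In a schematic space with `s ≤ a`, `s ≤ b`, the ring of sections over `up a ∩ up b` is the tensor
product `O_a ⊗_{O_s} O_b`. -/
theorem exists_tensor_equiv_inter (hX : X.IsSchematic) {s a b : X.pt} (ha : s ≤ a) (hb : s ≤ b) :
    letI : Algebra (X.ring s) (X.ring a) := (X.res ha).toAlgebra
    letI : Algebra (X.ring s) (X.ring b) := (X.res hb).toAlgebra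
    ∃ e : (X.ring a ⊗[X.ring s] X.ring b) ≃+* X.sectRing (X.up a ∩ X.up b),
      ∀ (x : X.ring a) (y : X.ring b) (q : ↥(X.up a ∩ X.up b)),
        (e (x ⊗ₜ[X.ring s] y)).1 q = X.res q.2.1 x * X.res q.2.2 y := by
  letI : Algebra (X.ring s) (X.ring a) := (X.res ha).toAlgebra
  letI : Algebra (X.ring s) (X.ring b) := (X.res hb).toAlgebra
  have hUa : X.up a ∩ X.up b ⊆ X.up a := fun _ h => h.1
  have hUb : X.up a ∩ X.up b ⊆ X.up b := fun _ h => h.2
  let ra := X.resSect a _ hUa
  let rb := X.resSect b _ hUb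
  letI : Algebra (X.ring s) (X.sectRing (X.up a ∩ X.up b)) := (ra.comp (X.res ha)).toAlgebra
  let fa : X.ring a →ₐ[X.ring s] X.sectRing (X.up a ∩ X.up b) := ⟨ra, fun _ => rfl⟩
  let fb : X.ring b →ₐ[X.ring s] X.sectRing (X.up a ∩ X.up b) := ⟨rb, fun r => by
    apply Subtype.ext
    funext q
    change X.res (hUb q.2) (X.res hb r) = X.res (hUa q.2) (X.res ha r)
    rw [X.res_comp, X.res_comp]⟩
  let F : (X.ring a ⊗[X.ring s] X.ring b) →ₐ[X.ring s] X.sectRing (X.up a ∩ X.up b) :=
    Algebra.TensorProduct.lift fa fb (fun _ _ => Commute.all _ _)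
  have hF : Function.Bijective F := by
    have h := isBCAlong_inter hX ha hb _ rfl hUa hUb
    letI : Module (X.ring a) (X.sectRing (X.up a ∩ X.up b)) :=
      Module.compHom (↥(X.sectRing (X.up a ∩ X.up b))) (X.resSect a (X.up a ∩ X.up b) hUa)
    have hb := (bcEquiv (X.res ha) h).bijective
    have hfun : (F : (X.ring a ⊗[X.ring s] X.ring b) → X.sectRing (X.up a ∩ X.up b)) =
        fun t => bcEquiv (X.res ha) h t := by
      funext t
      induction t using TensorProduct.induction_on with
      | zero => rw [map_zero]; exact (map_zero (bcEquiv (X.res ha) h)).symm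
      | tmul x y =>
        rw [bcEquiv_tmul]
        change F (x ⊗ₜ y) = ra x * rb y
        exact Algebra.TensorProduct.lift_tmul _ _ _ _ _
      | add x y hx hy =>
        rw [map_add, hx, hy]
        exact (map_add (bcEquiv (X.res ha) h) x y).symm
    rw [hfun]
    exact hb
  refine ⟨RingEquiv.ofBijective F.toRingHom hF, ?_⟩
  intro x y q
  change (F (x ⊗ₜ y)).1 q = _
  rw [show F (x ⊗ₜ y) = ra x * rb y from Algebra.TensorProduct.lift_tmul _ _ _ _ _]
  rfl

/-- In a schematic space the restriction maps of rings are epimorphisms. -/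
theorem isEpi_res (hX : X.IsSchematic) {x y : X.pt} (h : x ≤ y) :
    letI : Algebra (X.ring x) (X.ring y) := (X.res h).toAlgebra
    Algebra.IsEpi (X.ring x) (X.ring y) := by
  letI : Algebra (X.ring x) (X.ring y) := (X.res h).toAlgebra
  obtain ⟨e, he⟩ := exists_tensor_equiv_inter hX h h
  rw [Algebra.isEpi_iff_forall_one_tmul_eq]
  intro a
  apply e.injective
  apply Subtype.ext
  funext q
  rw [he, he, map_one, one_mul, mul_one]

end Deg0

end K868.SchFin
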