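import Groth.Prelude.Def_SchFin2
import Groth.Agent.SchFin.K868.Basic

/-! # Geometric points: the schematic condition in degree zero -/

set_option autoImplicit false

universe u

open TensorProduct SchFin

namespace K868.SchFin

/-- two field-valued points with the same kernel have a common field extension -/
lemma exists_common_field {R K L : Type u} [CommRing R] [Field K] [Field L] (f : R →+* K)
    (g : R →+* L) (h : RingHom.ker f = RingHom.ker g) :
    ∃ (F : Type u) (_ : Field F) (i : K →+* F) (j : L →+* F), i.comp f = j.comp g := by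
  let p : Ideal R := RingHom.ker f
  have hp : p.IsPrime := RingHom.ker_isPrime f
  let f' : p.ResidueField →+* K := Ideal.ResidueField.lift p f le_rfl
    (fun x hx => IsUnit.mk0 _ (fun h0 => hx h0))
  let g' : p.ResidueField →+* L := Ideal.ResidueField.lift p g h.le
    (fun x hx => IsUnit.mk0 _ (fun h0 => hx (h.ge h0)))
  let _ : Algebra p.ResidueField K := f'.toAlgebra
  let _ : Algebra p.ResidueField L := g'.toAlgebra
  obtain ⟨m, hm⟩ := Ideal.exists_maximal (K ⊗[p.ResidueField] L)
  let _ : Field ((K ⊗[p.ResidueField] L) ⧸ m) := Ideal.Quotient.field m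
  refine ⟨(K ⊗[p.ResidueField] L) ⧸ m, inferInstance,
    (Ideal.Quotient.mk m).comp Algebra.TensorProduct.includeLeftRingHom,
    (Ideal.Quotient.mk m).comp Algebra.TensorProduct.includeRight.toRingHom, ?_⟩
  ext r
  change Ideal.Quotient.mk m (f r ⊗ₜ[p.ResidueField] 1) = Ideal.Quotient.mk m (1 ⊗ₜ[p.ResidueField] g r)
  congr 1
  have h1 : f r = algebraMap p.ResidueField K (algebraMap R _ r) :=
    (Ideal.ResidueField.lift_algebraMap _ _ _ _ _).symm
  have h2 : g r = algebraMap p.ResidueField L (algebraMap R _ r) :=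
    (Ideal.ResidueField.lift_algebraMap _ _ _ _ _).symm
  rw [h1, h2, Algebra.algebraMap_eq_smul_one (A := K), Algebra.algebraMap_eq_smul_one (A := L),
    TensorProduct.smul_tmul]

/-- primes with the same contraction have a common prime above in the tensor product -/
lemma exists_prime_tensorProduct {R A B : Type u} [CommRing R] [CommRing A] [CommRing B]
    [Algebra R A] [Algebra R B] (P : PrimeSpectrum A) (Q : PrimeSpectrum B)
    (h : PrimeSpectrum.comap (algebraMap R A) P = PrimeSpectrum.comap (algebraMap R B) Q) :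
    ∃ T : PrimeSpectrum (A ⊗[R] B),
      PrimeSpectrum.comap (Algebra.TensorProduct.includeLeftRingHom) T = P ∧
      PrimeSpectrum.comap (Algebra.TensorProduct.includeRight (R := R) (A := A) (B := B)).toRingHom T = Q := by
  let f : R →+* P.asIdeal.ResidueField := (algebraMap A _).comp (algebraMap R A)
  let g : R →+* Q.asIdeal.ResidueField := (algebraMap B _).comp (algebraMap R B)
  have hf : ∀ r, f r = 0 ↔ r ∈ (PrimeSpectrum.comap (algebraMap R A) P).asIdeal := fun r =>
    Ideal.algebraMap_residueField_eq_zero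
  have hg : ∀ r, g r = 0 ↔ r ∈ (PrimeSpectrum.comap (algebraMap R B) Q).asIdeal := fun r =>
    Ideal.algebraMap_residueField_eq_zero
  obtain ⟨F, _, i, j, hij⟩ := exists_common_field f g (by
    ext r
    rw [RingHom.mem_ker, RingHom.mem_ker, hf, hg, h])
  let _ : Algebra R F := (i.comp f).toAlgebra
  let φ : A →ₐ[R] F := ⟨i.comp (algebraMap A _), fun _ => rfl⟩
  let ψ : B →ₐ[R] F := ⟨j.comp (algebraMap B _), fun r => (RingHom.congr_fun hij r).symm⟩
  let θ : A ⊗[R] B →ₐ[R] F := Algebra.TensorProduct.lift φ ψ (fun _ _ => Commute.all _ _)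
  refine ⟨⟨RingHom.ker θ.toRingHom, RingHom.ker_isPrime _⟩, ?_, ?_⟩
  · apply PrimeSpectrum.ext
    ext a
    change θ (a ⊗ₜ 1) = 0 ↔ _
    rw [Algebra.TensorProduct.lift_tmul, map_one, mul_one]
    change i (algebraMap A P.asIdeal.ResidueField a) = 0 ↔ _
    rw [map_eq_zero, Ideal.algebraMap_residueField_eq_zero]
  · apply PrimeSpectrum.ext
    ext b
    change θ (1 ⊗ₜ b) = 0 ↔ _
    rw [Algebra.TensorProduct.lift_tmul, map_one, one_mul]
    change j (algebraMap B Q.asIdeal.ResidueField b) = 0 ↔ _
    rw [map_eq_zero, Ideal.algebraMap_residueField_eq_zero]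

section Point

variable {X : RSpace.{u}} {Ω : Type u} [Field Ω]

/-- a morphism from the point is determined by the point and the ring map -/
lemma hom_point_ext {R : Type u} [CommRing R] (f g : SchFin.Hom (RSpace.point R) X)
    (h : (⟨f.fn PUnit.unit, f.app PUnit.unit⟩ : Σ x : X.pt, (X.ring x →+* R)) =
      ⟨g.fn PUnit.unit, g.app PUnit.unit⟩) : f = g := by
  obtain ⟨f1, f2, f3, f4⟩ := f
  obtain ⟨g1, g2, g3, g4⟩ := g
  have h1 : f1 = g1 := by
    funext x
    exact congrArg Sigma.fst h
  subst h1
  have h2 : f3 PUnit.unit = g3 PUnit.unit := by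
    have := (Sigma.mk.inj_iff.1 h).2
    exact eq_of_heq this
  have h3 : f3 = g3 := by
    funext x
    exact h2
  subst h3
  rfl

/-- the morphism from the one-point space on `R` given by a point and a ring map -/
def homPoint {R : Type u} [CommRing R] (x : X.pt) (φ : X.ring x →+* R) :
    SchFin.Hom (RSpace.point R) X where
  fn _ := x
  mono _ _ _ := le_refl _
  app _ := φ
  compat _ b := by
    change φ b = φ (X.res _ b)
    rw [X.res_self]

/-- sections over a set of points of the one-point space: the cohomology in degree zero when the set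
contains the point -/
lemma subsingleton_H_of_empty {Y : RSpace.{u}} {U : Set Y.pt} {R : Type u} [CommRing R]
    (φ : Coef Y U R) (M : OMod Y) (hU : U = ∅) (n : ℕ) : Subsingleton (H φ M n) := by
  have : IsEmpty (Chain U n) := ⟨fun σ => by
    have h0 : ((σ 0).1 : Y.pt) ∈ U := (σ 0).2
    exact Set.eq_empty_iff_forall_notMem.1 hU _ h0⟩
  have h1 : Subsingleton (Cochain φ M n) := ⟨fun a b => funext fun σ => (this.false σ).elim⟩
  have h2 : Subsingleton (cocycles φ M n) := inferInstance
  exact Function.Surjective.subsingleton (f := H.mk φ M n) (Submodule.mkQ_surjective _)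

/-- The schematic condition for a geometric point: at a point `y` below the base and a point `y' ≥ y` not
below the base, `O_{y'} ⊗_{O_y} Ω = 0`. -/
theorem subsingleton_tensor_of_isSchematic {f : SchFin.Hom (RSpace.point Ω) X} (hf : f.IsSchematic)
    {y y' : X.pt} (hyy : y ≤ y') (hy : y ≤ f.fn PUnit.unit) (hy' : ¬ y' ≤ f.fn PUnit.unit) :
    letI : Algebra (X.ring y) (X.ring y') := (X.res hyy).toAlgebra
    letI : Algebra (X.ring y) Ω := ((f.app PUnit.unit).comp (X.res hy)).toAlgebra
    Subsingleton (X.ring y' ⊗[X.ring y] Ω) := by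
  letI : Algebra (X.ring y) (X.ring y') := (X.res hyy).toAlgebra
  letI : Algebra (X.ring y) Ω := ((f.app PUnit.unit).comp (X.res hy)).toAlgebra
  have key := (hf.2.2 0 PUnit.unit PUnit.unit (le_refl _) y y' hyy).2
  have hempty : f.wedge PUnit.unit y' = ∅ := by
    ext q
    simp only [Set.mem_empty_iff_false, iff_false]
    rintro ⟨_, h⟩
    exact hy' h
  have hss : Subsingleton (H (Coef.ofHom f y' (f.wedge PUnit.unit y') (f.wedge_subset_pre PUnit.unit y'))
    (RSpace.point Ω).str 0) := subsingleton_H_of_empty _ _ hempty 0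
  have hss2 : Subsingleton (X.ring y' ⊗[X.ring y] (H (Coef.ofHom f y (f.wedge PUnit.unit y)
    (f.wedge_subset_pre PUnit.unit y)) (RSpace.point Ω).str 0)) := (bcEquiv (X.res hyy) key).toEquiv.subsingleton
  let W := f.wedge PUnit.unit y
  have hW : ∀ q : (RSpace.point Ω).pt, q ∈ W := fun q => ⟨le_refl _, hy⟩
  let φ := Coef.ofHom f y W (f.wedge_subset_pre PUnit.unit y)
  let toS : Ω → (RSpace.point Ω).str.sect W := fun x => ⟨fun q => x, fun q q' h => rfl⟩
  let e₀ : Ω ≃+ (RSpace.point Ω).str.sect W := by
    refine AddEquiv.ofBijective (AddMonoidHom.mk' toS ?_) ⟨?_, ?_⟩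
    · intro x y
      rfl
    · intro x y hxy
      exact congrFun (congrArg Subtype.val hxy) ⟨PUnit.unit, hW _⟩
    · intro t
      refine ⟨t.1 ⟨PUnit.unit, hW _⟩, ?_⟩
      apply Subtype.ext; funext q
      rfl
  let e : Ω ≃ₗ[X.ring y] H φ (RSpace.point Ω).str 0 :=
    (AddEquiv.toLinearEquiv (e₀.trans (h0Equiv φ (RSpace.point Ω).str)) (by
      intro r x
      change h0Equiv φ (RSpace.point Ω).str (toS (r • x)) = r • h0Equiv φ (RSpace.point Ω).str (toS x)
      apply h0Equiv_smul
      intro q
      rfl))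
  exact (TensorProduct.congr (LinearEquiv.refl (X.ring y) (X.ring y')) e).toEquiv.subsingleton

/-- the kernel of a schematic geometric point does not lift to points not below the base -/
theorem comap_ne_of_isSchematic {f : SchFin.Hom (RSpace.point Ω) X} (hf : f.IsSchematic)
    {y y' : X.pt} (hyy : y ≤ y') (hy : y ≤ f.fn PUnit.unit) (hy' : ¬ y' ≤ f.fn PUnit.unit)
    (P : Ideal (X.ring y')) [P.IsPrime] :
    P.comap (X.res hyy) ≠ RingHom.ker ((f.app PUnit.unit).comp (X.res hy)) := by
  intro h
  letI : Algebra (X.ring y) (X.ring y') := (X.res hyy).toAlgebra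
  letI : Algebra (X.ring y) Ω := ((f.app PUnit.unit).comp (X.res hy)).toAlgebra
  have hs := subsingleton_tensor_of_isSchematic hf hyy hy hy'
  obtain ⟨T, -, -⟩ := exists_prime_tensorProduct (R := X.ring y) (A := X.ring y') (B := Ω)
    ⟨P, inferInstance⟩ ⊥ (by
      apply PrimeSpectrum.ext
      change P.comap (X.res hyy) = Ideal.comap ((f.app PUnit.unit).comp (X.res hy)) ⊥
      rw [h]; rfl)
  exact T.2.ne_top (Ideal.eq_top_of_isUnit_mem _ (T.1.zero_mem)
    (by rw [Subsingleton.elim (0 : X.ring y' ⊗[X.ring y] Ω) 1]; exact isUnit_one))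

end Point

end K868.SchFin
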