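import Groth.Prelude.Def_SchFin2
import Groth.Agent.SchFin.K868.Basic
import Mathlib.RingTheory.Flat.FaithfullyFlat.Algebra
import Mathlib.RingTheory.Flat.FaithfullyFlat.Descent
import Mathlib.RingTheory.RingHom.Flat
import Mathlib.RingTheory.LocalRing.ResidueField.Basic

/-! # Flat epimorphisms: local isomorphisms, and base change of modules -/

set_option autoImplicit false

universe u

open TensorProduct SchFin

namespace K868.SchFin

/-- cancellation of an epimorphism, elementwise form -/
lemma eq_of_isEpi {R S : Type u} [CommRing R] [CommRing S] [Algebra R S] [Algebra.IsEpi R S]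
    {T : Type*} [CommRing T] (g₁ g₂ : S →+* T)
    (hg : g₁.comp (algebraMap R S) = g₂.comp (algebraMap R S)) : g₁ = g₂ := by
  have hepi := (Algebra.isEpi_iff_forall_one_tmul_eq R S).1 inferInstance
  let _ : Algebra R T := (g₁.comp (algebraMap R S)).toAlgebra
  let f₁ : S →ₐ[R] T := ⟨g₁, fun _ => rfl⟩
  let f₂ : S →ₐ[R] T := ⟨g₂, fun r => (RingHom.congr_fun hg r).symm⟩
  ext a
  have := congrArg (Algebra.TensorProduct.lift f₁ f₂ (fun _ _ => Commute.all _ _)) (hepi a)
  rw [Algebra.TensorProduct.lift_tmul, Algebra.TensorProduct.lift_tmul, map_one, map_one, one_mul,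
    mul_one] at this
  exact this.symm

/-- a faithfully flat epimorphism is bijective -/
lemma bijective_of_faithfullyFlat_of_forall_tmul {A B : Type u} [CommRing A] [CommRing B] [Algebra A B]
    [Module.FaithfullyFlat A B] (h : ∀ b : B, (1 : B) ⊗ₜ[A] b = b ⊗ₜ[A] (1 : B)) :
    Function.Bijective (algebraMap A B) := by
  apply Module.FaithfullyFlat.bijective_of_tensorProduct (R := A) (S := B) (T := B)
  constructor
  · intro x y hxy
    have := congrArg (Algebra.TensorProduct.lmul' A (S := B)) hxy
    simpa using this
  · intro t
    induction t using TensorProduct.induction_on with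
    | zero => exact ⟨0, map_zero _⟩
    | tmul x y =>
      refine ⟨x * y, ?_⟩
      change (x * y) ⊗ₜ[A] (1 : B) = x ⊗ₜ y
      rw [← mul_one x, ← one_mul y, ← Algebra.TensorProduct.tmul_mul_tmul, h y,
        Algebra.TensorProduct.tmul_mul_tmul]
      simp
    | add x y hx hy =>
      obtain ⟨a, rfl⟩ := hx
      obtain ⟨b, rfl⟩ := hy
      exact ⟨a + b, map_add _ _ _⟩

/-- A flat epimorphism of rings induces isomorphisms on local rings. -/
theorem bijective_localRingHom {R S : Type u} [CommRing R] [CommRing S] [Algebra R S]
    [Algebra.IsEpi R S] [Module.Flat R S] (P : Ideal S) [P.IsPrime] (Q : Ideal R) [Q.IsPrime]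
    (hQ : Q = P.comap (algebraMap R S)) :
    Function.Bijective (Localization.localRingHom Q P (algebraMap R S) hQ) := by
  let f := Localization.localRingHom Q P (algebraMap R S) hQ
  let _ : Algebra (Localization.AtPrime Q) (Localization.AtPrime P) := f.toAlgebra
  have hflat : (algebraMap (Localization.AtPrime Q) (Localization.AtPrime P)).Flat :=
    RingHom.Flat.localRingHom ((RingHom.flat_algebraMap_iff).2 inferInstance) P Q hQ
  have : Module.Flat (Localization.AtPrime Q) (Localization.AtPrime P) :=
    (RingHom.flat_algebraMap_iff).1 hflat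
  have hl : IsLocalHom (algebraMap (Localization.AtPrime Q) (Localization.AtPrime P)) :=
    Localization.isLocalHom_localRingHom Q P (algebraMap R S) hQ
  have : Module.FaithfullyFlat (Localization.AtPrime Q) (Localization.AtPrime P) :=
    Module.FaithfullyFlat.of_flat_of_isLocalHom
  change Function.Bijective (algebraMap (Localization.AtPrime Q) (Localization.AtPrime P))
  apply bijective_of_faithfullyFlat_of_forall_tmul
  let g₁ : Localization.AtPrime P →+* (Localization.AtPrime P ⊗[Localization.AtPrime Q] Localization.AtPrime P) :=
    Algebra.TensorProduct.includeRight.toRingHom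
  let g₂ : Localization.AtPrime P →+* (Localization.AtPrime P ⊗[Localization.AtPrime Q] Localization.AtPrime P) :=
    Algebra.TensorProduct.includeLeftRingHom
  have key : g₁ = g₂ := by
    apply IsLocalization.ringHom_ext P.primeCompl
    apply eq_of_isEpi (R := R)
    ext r
    have h1 : algebraMap S (Localization.AtPrime P) (algebraMap R S r) =
        algebraMap (Localization.AtPrime Q) (Localization.AtPrime P) (algebraMap R _ r) :=
      (Localization.localRingHom_to_map Q P (algebraMap R S) hQ r).symm
    change g₁ (algebraMap S (Localization.AtPrime P) (algebraMap R S r)) =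
      g₂ (algebraMap S (Localization.AtPrime P) (algebraMap R S r))
    rw [h1]
    change (1 : Localization.AtPrime P) ⊗ₜ[Localization.AtPrime Q]
      (algebraMap (Localization.AtPrime Q) (Localization.AtPrime P) (algebraMap R _ r)) =
      (algebraMap (Localization.AtPrime Q) (Localization.AtPrime P) (algebraMap R _ r)) ⊗ₜ 1
    rw [Algebra.algebraMap_eq_smul_one, TensorProduct.tmul_smul, TensorProduct.smul_tmul']
  intro b
  exact RingHom.congr_fun key b

variable {X : RSpace.{u}}

/-- In a schematic space restriction maps are isomorphisms on local rings. -/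
theorem bijective_localRingHom_res (hX : X.IsSchematic) {x y : X.pt} (h : x ≤ y)
    (P : Ideal (X.ring y)) [P.IsPrime] :
    Function.Bijective (Localization.localRingHom (P.comap (X.res h)) P (X.res h) rfl) := by
  let _ : Algebra (X.ring x) (X.ring y) := (X.res h).toAlgebra
  have : Algebra.IsEpi (X.ring x) (X.ring y) := isEpi_res hX h
  have : Module.Flat (X.ring x) (X.ring y) := hX.1.2 x y h
  exact bijective_localRingHom P (P.comap (X.res h)) rfl

end K868.SchFin
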