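import Groth.Prelude.Def_SchFin2
import Groth.Agent.SchFin.K868.Basic
import Groth.Agent.SchFin.K868.GeomPt
import Mathlib.RingTheory.Flat.FaithfullyFlat.Algebra

/-! # Pairs and schematic points -/

set_option autoImplicit false

universe u

open TensorProduct SchFin

namespace K868.SchFin

/-- every prime of a finite product comes from a factor -/
lemma exists_factor_prime {ι : Type u} [Finite ι] (R : ι → Type u) [∀ i, CommRing (R i)]
    (T : PrimeSpectrum (∀ i, R i)) :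
    ∃ (i : ι) (r : PrimeSpectrum (R i)), PrimeSpectrum.comap (Pi.evalRingHom R i) r = T := by
  obtain ⟨⟨i, r⟩, h⟩ := (PrimeSpectrum.sigmaToPi_bijective R).2 T
  exact ⟨i, r, h⟩

variable {X : RSpace.{u}}

/-- the faithful flatness hypothesis carried by the statements about pairs -/
def FF (X : RSpace.{u}) : Prop :=
  ∀ s a b : X.pt, s ≤ a → s ≤ b → (X.up a ∩ X.up b).Nonempty →
      Module.FaithfullyFlat (X.sectRing (X.up a ∩ X.up b)) ((q : ↥(X.up a ∩ X.up b)) → X.ring q.1)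

theorem pairRel_of_comap_eq_comap (hX : X.IsSchematic) (hff : FF X)
    {s x y : X.pt} (hx : s ≤ x) (hy : s ≤ y) (P : PrimeSpectrum (X.ring x)) (Q : PrimeSpectrum (X.ring y))
    (hPQ : PrimeSpectrum.comap (X.res hx) P = PrimeSpectrum.comap (X.res hy) Q) :
    X.PairRel ⟨x, P⟩ ⟨y, Q⟩ := by
  letI : Algebra (X.ring s) (X.ring x) := (X.res hx).toAlgebra
  letI : Algebra (X.ring s) (X.ring y) := (X.res hy).toAlgebra
  obtain ⟨e, he⟩ := exists_tensor_equiv_inter hX hx hy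
  obtain ⟨T, hT1, hT2⟩ := exists_prime_tensorProduct (R := X.ring s) P Q hPQ
  let T' : PrimeSpectrum (X.sectRing (X.up x ∩ X.up y)) := PrimeSpectrum.comap e.symm.toRingHom T
  have hne : (X.up x ∩ X.up y).Nonempty := by
    by_contra h
    rw [Set.not_nonempty_iff_eq_empty] at h
    have : (1 : X.sectRing (X.up x ∩ X.up y)) = 0 := by
      apply Subtype.ext
      funext q
      exact (Set.eq_empty_iff_forall_notMem.1 h q.1 q.2).elim
    exact T'.2.ne_top (Ideal.eq_top_of_isUnit_mem _ (T'.1.zero_mem) (by rw [← this]; exact isUnit_one))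
  have hf := hff s x y hx hy hne
  obtain ⟨T'', hT''⟩ := PrimeSpectrum.comap_surjective_of_faithfullyFlat
    (A := X.sectRing (X.up x ∩ X.up y)) (B := (q : ↥(X.up x ∩ X.up y)) → X.ring q.1) T'
  have hfin : Finite ↥(X.up x ∩ X.up y) := inferInstance
  obtain ⟨q, r, hr⟩ := exists_factor_prime (fun q : ↥(X.up x ∩ X.up y) => X.ring q.1) T''
  refine ⟨q.1, q.2.1, q.2.2, r, ?_, ?_⟩
  · rw [← hT1]
    apply PrimeSpectrum.ext
    ext a
    change X.res q.2.1 a ∈ r.asIdeal ↔ a ⊗ₜ[X.ring s] 1 ∈ T.asIdeal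
    have h1 : X.res q.2.1 a = (e (a ⊗ₜ[X.ring s] (1 : X.ring y))).1 q := by rw [he, map_one, mul_one]
    rw [h1]
    change (e (a ⊗ₜ[X.ring s] (1 : X.ring y))) ∈ (PrimeSpectrum.comap (algebraMap (X.sectRing (X.up x ∩ X.up y))
      ((q : ↥(X.up x ∩ X.up y)) → X.ring q.1)) (PrimeSpectrum.comap (Pi.evalRingHom _ q) r)).asIdeal ↔ _
    rw [hr, hT'']
    change e.symm (e (a ⊗ₜ[X.ring s] (1 : X.ring y))) ∈ T.asIdeal ↔ _
    rw [RingEquiv.symm_apply_apply]
  · rw [← hT2]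
    apply PrimeSpectrum.ext
    ext a
    change X.res q.2.2 a ∈ r.asIdeal ↔ (1 : X.ring x) ⊗ₜ[X.ring s] a ∈ T.asIdeal
    have h1 : X.res q.2.2 a = (e ((1 : X.ring x) ⊗ₜ[X.ring s] a)).1 q := by rw [he, map_one, one_mul]
    rw [h1]
    change (e ((1 : X.ring x) ⊗ₜ[X.ring s] a)) ∈ (PrimeSpectrum.comap (algebraMap (X.sectRing (X.up x ∩ X.up y))
      ((q : ↥(X.up x ∩ X.up y)) → X.ring q.1)) (PrimeSpectrum.comap (Pi.evalRingHom _ q) r)).asIdeal ↔ _
    rw [hr, hT'']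
    change e.symm (e ((1 : X.ring x) ⊗ₜ[X.ring s] a)) ∈ T.asIdeal ↔ _
    rw [RingEquiv.symm_apply_apply]

/-- related pairs at the same point are equal -/
lemma eq_of_pairRel {x : X.pt} {P Q : PrimeSpectrum (X.ring x)} (h : X.PairRel ⟨x, P⟩ ⟨x, Q⟩) : P = Q := by
  obtain ⟨z, h1, h2, r, hr1, hr2⟩ := h
  exact hr1.symm.trans hr2

lemma pairRel_refl (a : X.Pair) : X.PairRel a a :=
  ⟨a.1, le_refl _, le_refl _, a.2, by
    apply PrimeSpectrum.ext; ext x
    change X.res (le_refl a.1) x ∈ a.2.asIdeal ↔ _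
    rw [X.res_self], by
    apply PrimeSpectrum.ext; ext x
    change X.res (le_refl a.1) x ∈ a.2.asIdeal ↔ _
    rw [X.res_self]⟩

lemma pairRel_symm {a b : X.Pair} (h : X.PairRel a b) : X.PairRel b a := by
  obtain ⟨z, h1, h2, r, hr1, hr2⟩ := h
  exact ⟨z, h2, h1, r, hr2, hr1⟩

lemma comap_res_comp {x y z : X.pt} (h : x ≤ y) (h' : y ≤ z) (r : PrimeSpectrum (X.ring z)) :
    PrimeSpectrum.comap (X.res h) (PrimeSpectrum.comap (X.res h') r) =
      PrimeSpectrum.comap (X.res (h.trans h')) r := by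
  apply PrimeSpectrum.ext; ext a
  change X.res h' (X.res h a) ∈ r.asIdeal ↔ X.res (h.trans h') a ∈ r.asIdeal
  rw [X.res_comp]

theorem pairRel_trans (hX : X.IsSchematic) (hff : FF X) {a b c : X.Pair} (h : X.PairRel a b)
    (h' : X.PairRel b c) : X.PairRel a c := by
  obtain ⟨z, h1, h2, r, hr1, hr2⟩ := h
  obtain ⟨z', h1', h2', r', hr1', hr2'⟩ := h'
  obtain ⟨w, k1, k2, t, kt1, kt2⟩ := pairRel_of_comap_eq_comap hX hff h2 h1' r r' (hr2.trans hr1'.symm)
  change z ≤ w at k1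
  change z' ≤ w at k2
  refine ⟨w, h1.trans k1, h2'.trans k2, t, ?_, ?_⟩
  · rw [← comap_res_comp h1 k1, kt1, hr1]
  · rw [← comap_res_comp h2' k2, kt2, hr2']

theorem equivalence_pairRel (hX : X.IsSchematic) (hff : FF X) : Equivalence X.PairRel :=
  ⟨pairRel_refl, pairRel_symm, pairRel_trans hX hff⟩

theorem mk_eq_iff (hX : X.IsSchematic) (hff : FF X) (a b : X.Pair) :
    Quot.mk X.PairRel a = Quot.mk X.PairRel b ↔ X.PairRel a b := by
  rw [Quot.eq, (equivalence_pairRel hX hff).eqvGen_iff]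

theorem existsUnique_maximal_pair (hX : X.IsSchematic) (hff : FF X) (c : X.SchPt) :
    ∃! a : X.Pair, Quot.mk X.PairRel a = c ∧ ∀ b : X.Pair, Quot.mk X.PairRel b = c → b.1 ≤ a.1 := by
  obtain ⟨a₀, rfl⟩ := Quot.exists_rep c
  -- points carrying a representative
  let S : Set X.pt := {x | ∃ P : PrimeSpectrum (X.ring x), Quot.mk X.PairRel ⟨x, P⟩ = Quot.mk X.PairRel a₀}
  have hS : S.Nonempty := ⟨a₀.1, a₀.2, rfl⟩
  obtain ⟨m, hm⟩ := (Set.toFinite S).exists_maximal hS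
  obtain ⟨P, hP⟩ := hm.1
  have hmax : ∀ b : X.Pair, Quot.mk X.PairRel b = Quot.mk X.PairRel a₀ → b.1 ≤ m := by
    intro b hb
    have hrel : X.PairRel b ⟨m, P⟩ := (mk_eq_iff hX hff _ _).1 (hb.trans hP.symm)
    obtain ⟨z, h1, h2, r, hr1, hr2⟩ := hrel
    have hz : z ∈ S := ⟨r, by
      rw [← hb, mk_eq_iff hX hff]
      refine ⟨z, le_refl _, h1, r, ?_, hr1⟩
      apply PrimeSpectrum.ext; ext x
      change X.res (le_refl z) x ∈ r.asIdeal ↔ _
      rw [X.res_self]⟩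
    exact h1.trans (hm.2 hz h2)
  refine ⟨⟨m, P⟩, ⟨hP, hmax⟩, ?_⟩
  rintro ⟨x, Q⟩ ⟨h1, h2⟩
  have e1 : m ≤ x := h2 ⟨m, P⟩ hP
  have e2 : x ≤ m := hmax ⟨x, Q⟩ h1
  have : m = x := le_antisymm e1 e2
  subst this
  have := eq_of_pairRel ((mk_eq_iff hX hff _ _).1 (h1.trans hP.symm))
  rw [this]

end K868.SchFin
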