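import Groth.Prelude.Def_SchFin
import Groth.Agent.SchFin.K868.Basic

/-! # Calculus of `IsBCAlong` -/

set_option autoImplicit false

universe u

open TensorProduct SchFin

namespace K868.SchFin

variable {R S T : Type u} [CommRing R] [CommRing S] [CommRing T]

lemma isBCAlong_congr {g g' : R →+* S} (hg : g = g') {M N : Type u} [AddCommGroup M] [AddCommGroup N]
    [Module R M] [Module S N] (f : M →ₛₗ[g] N) (f' : M →ₛₗ[g'] N) (hf : ∀ m, f m = f' m)
    (h : IsBCAlong g f) : IsBCAlong g' f' := by
  subst hg
  have : f = f' := LinearMap.ext hf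
  rwa [← this]

/-- base change along an isomorphism of rings -/
lemma isBCAlong_of_bijective (g : R →+* S) (hg : Function.Surjective g) {M N : Type u}
    [AddCommGroup M] [AddCommGroup N] [Module R M] [Module S N] (f : M →ₛₗ[g] N)
    (hf : Function.Bijective f) : IsBCAlong g f := by
  letI : Algebra R S := g.toAlgebra
  letI : Module R N := Module.compHom N g
  haveI : IsScalarTower R S N := IsScalarTower.of_algebraMap_smul fun _ _ => rfl
  let f' : M →ₗ[R] N := { toFun := f, map_add' := f.map_add, map_smul' := f.map_smulₛₗ }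
  let F : S ⊗[R] M →ₗ[S] N := f'.liftBaseChange S
  have hF : ∀ (s : S) (m : M), F (s ⊗ₜ m) = s • f m := fun s m => LinearMap.liftBaseChange_tmul _ _ _ _
  have hpure : ∀ t : S ⊗[R] M, ∃ m : M, t = (1 : S) ⊗ₜ[R] m := by
    intro t
    induction t using TensorProduct.induction_on with
    | zero => exact ⟨0, (TensorProduct.tmul_zero _ _).symm⟩
    | tmul s m =>
      obtain ⟨r, rfl⟩ := hg s
      refine ⟨r • m, ?_⟩
      rw [TensorProduct.tmul_smul, TensorProduct.smul_tmul', Algebra.smul_def, mul_one]
      rfl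
    | add x y hx hy =>
      obtain ⟨a, rfl⟩ := hx
      obtain ⟨b, rfl⟩ := hy
      exact ⟨a + b, (TensorProduct.tmul_add _ _ _).symm⟩
  have hbij : Function.Bijective F := by
    constructor
    · rw [injective_iff_map_eq_zero]
      intro t ht
      obtain ⟨m, rfl⟩ := hpure t
      rw [hF, one_smul] at ht
      have : m = 0 := hf.1 (ht.trans (map_zero f).symm)
      rw [this, TensorProduct.tmul_zero]
    · intro n
      obtain ⟨m, rfl⟩ := hf.2 n
      exact ⟨(1 : S) ⊗ₜ m, by rw [hF, one_smul]⟩
  exact isBCAlong_of_equiv g f (LinearEquiv.ofBijective F hbij) (fun m => by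
    change F (1 ⊗ₜ m) = f m
    rw [hF, one_smul])

/-- composition of base changes -/
lemma isBCAlong_comp (g : R →+* S) (g' : S →+* T) {M N P : Type u} [AddCommGroup M] [AddCommGroup N]
    [AddCommGroup P] [Module R M] [Module S N] [Module T P] (f : M →ₛₗ[g] N) (f' : N →ₛₗ[g'] P)
    (hf : IsBCAlong g f) (hf' : IsBCAlong g' f') (f'' : M →ₛₗ[g'.comp g] P)
    (h : ∀ m, f'' m = f' (f m)) : IsBCAlong (g'.comp g) f'' := by
  letI : Algebra R S := g.toAlgebra
  letI : Algebra S T := g'.toAlgebra
  letI : Algebra R T := (g'.comp g).toAlgebra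
  letI : Module R N := Module.compHom N g
  letI : Module S P := Module.compHom P g'
  letI : Module R P := Module.compHom P (g'.comp g)
  haveI : IsScalarTower R S T := IsScalarTower.of_algebraMap_eq fun _ => rfl
  haveI : IsScalarTower R S N := IsScalarTower.of_algebraMap_smul fun _ _ => rfl
  haveI : IsScalarTower S T P := IsScalarTower.of_algebraMap_smul fun _ _ => rfl
  haveI : IsScalarTower R T P := IsScalarTower.of_algebraMap_smul fun _ _ => rfl
  haveI : IsScalarTower R S P := IsScalarTower.of_algebraMap_smul fun _ _ => rfl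
  let f1 : M →ₗ[R] N := { toFun := f, map_add' := f.map_add, map_smul' := f.map_smulₛₗ }
  let f2 : N →ₗ[S] P := { toFun := f', map_add' := f'.map_add, map_smul' := f'.map_smulₛₗ }
  have h1 : IsBaseChange S f1 := hf
  have h2 : IsBaseChange T f2 := hf'
  have h3 := h1.comp h2
  let f3 : M →ₗ[R] P := { toFun := f'', map_add' := f''.map_add, map_smul' := f''.map_smulₛₗ }
  change IsBaseChange T f3
  have : f3 = (f2.restrictScalars R).comp f1 := by
    ext m
    exact h m
  rwa [this]

/-- cancellation of base changes -/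
lemma isBCAlong_of_comp (g : R →+* S) (g' : S →+* T) {M N P : Type u} [AddCommGroup M] [AddCommGroup N]
    [AddCommGroup P] [Module R M] [Module S N] [Module T P] (f : M →ₛₗ[g] N) (f' : N →ₛₗ[g'] P)
    (hf : IsBCAlong g f) (f'' : M →ₛₗ[g'.comp g] P) (hf'' : IsBCAlong (g'.comp g) f'')
    (h : ∀ m, f'' m = f' (f m)) : IsBCAlong g' f' := by
  letI : Algebra R S := g.toAlgebra
  letI : Algebra S T := g'.toAlgebra
  letI : Algebra R T := (g'.comp g).toAlgebra
  letI : Module R N := Module.compHom N g
  letI : Module S P := Module.compHom P g'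
  letI : Module R P := Module.compHom P (g'.comp g)
  haveI : IsScalarTower R S T := IsScalarTower.of_algebraMap_eq fun _ => rfl
  haveI : IsScalarTower R S N := IsScalarTower.of_algebraMap_smul fun _ _ => rfl
  haveI : IsScalarTower S T P := IsScalarTower.of_algebraMap_smul fun _ _ => rfl
  haveI : IsScalarTower R T P := IsScalarTower.of_algebraMap_smul fun _ _ => rfl
  haveI : IsScalarTower R S P := IsScalarTower.of_algebraMap_smul fun _ _ => rfl
  let f1 : M →ₗ[R] N := { toFun := f, map_add' := f.map_add, map_smul' := f.map_smulₛₗ }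
  let f2 : N →ₗ[S] P := { toFun := f', map_add' := f'.map_add, map_smul' := f'.map_smulₛₗ }
  have h1 : IsBaseChange S f1 := hf
  let f3 : M →ₗ[R] P := { toFun := f'', map_add' := f''.map_add, map_smul' := f''.map_smulₛₗ }
  have h3 : IsBaseChange T f3 := hf''
  have : f3 = (f2.restrictScalars R).comp f1 := by
    ext m
    exact h m
  rw [this] at h3
  exact h1.of_comp h3

section Affine

variable {X : RSpace.{u}}

/-- sections over `U` are the global sections of the restriction to `U` -/
def sectRingEquiv (U : Set X.pt) : X.sectRing U ≃+* (X.restrict U).sectRing Set.univ where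
  toFun s := ⟨fun q => s.1 q.1, fun q q' h => s.2 q.1 q'.1 h⟩
  invFun s := ⟨fun q => s.1 ⟨q, trivial⟩, fun q q' h => s.2 ⟨q, trivial⟩ ⟨q', trivial⟩ h⟩
  left_inv _ := rfl
  right_inv _ := rfl
  map_mul' _ _ := rfl
  map_add' _ _ := rfl

/-- the counit for an affine set of points -/
theorem isBCAlong_eval (U : Set X.pt) (hUa : (X.restrict U).IsAffine) (M : OMod X) (hM : M.IsQcoh)
    (q : U) : IsBCAlong (X.evalRing U q) (M.evalMod U q) := by
  have h1 := hUa.2.2.1 (M.restrict U) (fun p q h => hM p.1 q.1 h) q
  let e : M.sect U →ₛₗ[(sectRingEquiv U).toRingHom] (M.restrict U).sect Set.univ :=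
    { toFun := fun s => ⟨fun q => s.1 q.1, fun q q' h => s.2 q.1 q'.1 h⟩
      map_add' := fun _ _ => rfl
      map_smul' := fun _ _ => rfl }
  have h0 : IsBCAlong (sectRingEquiv U).toRingHom e := by
    apply isBCAlong_of_bijective _ (sectRingEquiv U).surjective
    constructor
    · intro s t hst
      apply Subtype.ext
      funext q
      exact congrFun (congrArg Subtype.val hst) ⟨q, trivial⟩
    · intro s
      exact ⟨⟨fun q => s.1 ⟨q, trivial⟩, fun q q' h => s.2 ⟨q, trivial⟩ ⟨q', trivial⟩ h⟩, rfl⟩
  exact isBCAlong_comp _ _ e _ h0 h1 (M.evalMod U q) (fun _ => rfl)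

end Affine

end K868.SchFin
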