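import Mathlib.RingTheory.IsTensorProduct
import Mathlib.RingTheory.Flat.FaithfullyFlat.Basic
import Mathlib.RingTheory.Flat.FaithfullyFlat.Algebra
import Mathlib.RingTheory.Flat.Stability
import Mathlib.LinearAlgebra.TensorProduct.Pi
import Mathlib.RingTheory.TensorProduct.Pi
import Mathlib.RingTheory.Finiteness.Descent
import Mathlib.RingTheory.Etale.Descent
import Mathlib.RingTheory.Etale.Pi
import Mathlib.RingTheory.Localization.Away.Lemmas
import Mathlib.RingTheory.Spectrum.Prime.Topology

/-! # Descent along a finite family with faithfully flat product -/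

set_option autoImplicit false

universe u

open TensorProduct

namespace K868.Fam

variable {ι : Type u} [Finite ι] {R T : Type u} [CommRing R] [CommRing T] [Algebra R T]
  (S T' : ι → Type u) [∀ i, CommRing (S i)] [∀ i, CommRing (T' i)] [∀ i, Algebra R (S i)]
  [∀ i, Algebra (S i) (T' i)] [∀ i, Algebra R (T' i)] [∀ i, IsScalarTower R (S i) (T' i)]

/-- the algebra structure over the product through a factor -/
abbrev algPi (i : ι) : Algebra (∀ i, S i) (T' i) := Algebra.compHom (T' i) (Pi.evalRingHom S i)

variable {S T'}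

/-- the canonical algebra map `(∏ S i) ⊗[R] T → ∏ T' i` is an isomorphism when each `T' i` is the base
change of `T` -/
theorem exists_algEquiv (g : ∀ i, T →ₐ[R] T' i) (hg : ∀ i, IsBaseChange (S i) (g i).toLinearMap) :
    ∃ E : (∀ i, S i) ⊗[R] T ≃ₐ[∀ i, S i] (∀ i, T' i),
      ∀ (b : ∀ i, S i) (t : T) (i : ι), E (b ⊗ₜ t) i = b i • g i t := by
  classical
  have := Fintype.ofFinite ι
  haveI : IsScalarTower R (∀ i, S i) (∀ i, T' i) := IsScalarTower.of_algebraMap_eq fun r => by
    funext i
    exact IsScalarTower.algebraMap_apply R (S i) (T' i) r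
  let G : T →ₐ[R] (∀ i, T' i) := AlgHom.pi g
  let E : (∀ i, S i) ⊗[R] T →ₐ[∀ i, S i] (∀ i, T' i) :=
    Algebra.TensorProduct.lift (Algebra.ofId (∀ i, S i) (∀ i, T' i)) G (fun _ _ => Commute.all _ _)
  have hE : ∀ (b : ∀ i, S i) (t : T) (i : ι), E (b ⊗ₜ t) i = b i • g i t := by
    intro b t i
    change (Algebra.TensorProduct.lift (Algebra.ofId (∀ i, S i) (∀ i, T' i)) G _ (b ⊗ₜ t)) i = _
    rw [Algebra.TensorProduct.lift_tmul, Pi.mul_apply, Algebra.smul_def]
    rfl
  -- linear comparison
  let L : (∀ i, S i) ⊗[R] T ≃ₗ[R] (∀ i, T' i) :=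
    (TensorProduct.comm R _ _).trans ((TensorProduct.piRight R R T S).trans
      (LinearEquiv.piCongrRight fun i => (TensorProduct.comm R _ _).trans
        ((hg i).equiv.restrictScalars R)))
  have hL : ∀ x, E x = L x := by
    intro x
    induction x using TensorProduct.induction_on with
    | zero => rw [map_zero, map_zero]
    | tmul b t =>
      funext i
      rw [hE]
      change _ = (hg i).equiv (TensorProduct.comm R _ _ ((TensorProduct.piRight R R T S (t ⊗ₜ b)) i))
      rw [TensorProduct.piRight_apply, TensorProduct.piRightHom_tmul, TensorProduct.comm_tmul,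
        IsBaseChange.equiv_tmul]
      rfl
    | add x y hx hy => rw [map_add, map_add, hx, hy]
  have hbij : Function.Bijective E := by
    have : (E : (∀ i, S i) ⊗[R] T → (∀ i, T' i)) = L := funext hL
    rw [this]
    exact L.bijective
  exact ⟨AlgEquiv.ofBijective E hbij, hE⟩

omit [Finite ι] in
lemma isLocalization_eval [DecidableEq ι] (i : ι) :
    letI : Algebra (∀ i, S i) (S i) := (Pi.evalRingHom S i).toAlgebra
    IsLocalization.Away (Pi.single i (1 : S i) : ∀ i, S i) (S i) := by
  letI : Algebra (∀ i, S i) (S i) := (Pi.evalRingHom S i).toAlgebra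
  apply IsLocalization.away_of_isIdempotentElem
  · rw [IsIdempotentElem, ← Pi.single_mul, one_mul]
  · ext x
    rw [RingHom.mem_ker, Ideal.mem_span_singleton]
    change x i = 0 ↔ _
    constructor
    · intro hx
      refine ⟨x, ?_⟩
      rw [sub_mul, one_mul]
      ext j
      rw [Pi.sub_apply, Pi.mul_apply]
      by_cases hj : j = i
      · subst hj; rw [hx, mul_zero, sub_zero]
      · rw [Pi.single_eq_of_ne hj, zero_mul, sub_zero]
    · rintro ⟨y, rfl⟩
      rw [Pi.mul_apply, Pi.sub_apply, Pi.single_eq_same, Pi.one_apply, sub_self, zero_mul]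
  · intro x
    exact ⟨Pi.single i x, Pi.single_eq_same i x⟩

theorem flat_iff [hff : Module.FaithfullyFlat R (∀ i, S i)] (g : ∀ i, T →ₐ[R] T' i)
    (hg : ∀ i, IsBaseChange (S i) (g i).toLinearMap) :
    (∀ i, Module.Flat (S i) (T' i)) ↔ Module.Flat R T := by
  classical
  have := Fintype.ofFinite ι
  constructor
  · intro h
    obtain ⟨E, -⟩ := exists_algEquiv g hg
    letI : ∀ i, Algebra (∀ i, S i) (T' i) := fun i => algPi S T' i
    have h1 : ∀ i, Module.Flat (∀ i, S i) (T' i) := by
      intro i
      letI : Algebra (∀ i, S i) (S i) := (Pi.evalRingHom S i).toAlgebra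
      haveI : IsScalarTower (∀ i, S i) (S i) (T' i) := IsScalarTower.of_algebraMap_eq fun r => rfl
      have := isLocalization_eval (S := S) i
      have : Module.Flat (∀ i, S i) (S i) := IsLocalization.flat (S i) (Submonoid.powers (Pi.single i (1 : S i) : ∀ i, S i))
      have := h i
      exact Module.Flat.trans (∀ i, S i) (S i) (T' i)
    have h2 : @Module.Flat (∀ i, S i) (∀ i, T' i) _ _ (Pi.module ι T' _) :=
      Module.Flat.of_linearEquiv (DirectSum.linearEquivFunOnFintype (∀ i, S i) ι T').symm
    have h2' : @Module.Flat (∀ i, S i) (∀ i, T' i) _ _ (Pi.instAlgebraForall T' S).toModule := h2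
    have h3 : Module.Flat (∀ i, S i) ((∀ i, S i) ⊗[R] T) := Module.Flat.of_linearEquiv E.toLinearEquiv
    exact Module.Flat.of_flat_tensorProduct R T (∀ i, S i)
  · intro h i
    exact Module.Flat.isBaseChange R (S i) T (T' i) (hg i)

theorem finite_iff [hff : Module.FaithfullyFlat R (∀ i, S i)] (g : ∀ i, T →ₐ[R] T' i)
    (hg : ∀ i, IsBaseChange (S i) (g i).toLinearMap) :
    (∀ i, Module.Finite (S i) (T' i)) ↔ Module.Finite R T := by
  classical
  have := Fintype.ofFinite ι
  constructor
  · intro h
    obtain ⟨E, -⟩ := exists_algEquiv g hg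
    letI : ∀ i, Algebra (∀ i, S i) (T' i) := fun i => algPi S T' i
    have h1 : ∀ i, Module.Finite (∀ i, S i) (T' i) := by
      intro i
      letI : Algebra (∀ i, S i) (S i) := (Pi.evalRingHom S i).toAlgebra
      haveI : IsScalarTower (∀ i, S i) (S i) (T' i) := IsScalarTower.of_algebraMap_eq fun r => rfl
      have : Module.Finite (∀ i, S i) (S i) :=
        Module.Finite.of_surjective (Algebra.linearMap (∀ i, S i) (S i))
          (fun x => ⟨Pi.single i x, Pi.single_eq_same i x⟩)
      have := h i
      exact Module.Finite.trans (S i) (T' i)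
    have h2 : @Module.Finite (∀ i, S i) (∀ i, T' i) _ _ (Pi.module ι T' _) := Module.Finite.pi
    have h2' : @Module.Finite (∀ i, S i) (∀ i, T' i) _ _ (Pi.instAlgebraForall T' S).toModule := h2
    have h3 : Module.Finite (∀ i, S i) ((∀ i, S i) ⊗[R] T) :=
      Module.Finite.equiv E.symm.toLinearEquiv
    exact Module.Finite.of_finite_tensorProduct_of_faithfullyFlat (∀ i, S i)
  · intro h i
    exact Module.Finite.equiv (hg i).equiv

theorem etale_iff [hff : Module.FaithfullyFlat R (∀ i, S i)] (g : ∀ i, T →ₐ[R] T' i)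
    (hg : ∀ i, IsBaseChange (S i) (g i).toLinearMap) :
    (∀ i, Algebra.Etale (S i) (T' i)) ↔ Algebra.Etale R T := by
  classical
  have := Fintype.ofFinite ι
  constructor
  · intro h
    obtain ⟨E, -⟩ := exists_algEquiv g hg
    letI : ∀ i, Algebra (∀ i, S i) (T' i) := fun i => algPi S T' i
    have h1 : ∀ i, Algebra.Etale (∀ i, S i) (T' i) := by
      intro i
      letI : Algebra (∀ i, S i) (S i) := (Pi.evalRingHom S i).toAlgebra
      haveI : IsScalarTower (∀ i, S i) (S i) (T' i) := IsScalarTower.of_algebraMap_eq fun r => rfl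
      have := isLocalization_eval (S := S) i
      have : Algebra.Etale (∀ i, S i) (S i) := Algebra.Etale.of_isLocalizationAway (Pi.single i (1 : S i) : ∀ i, S i)
      have := h i
      exact Algebra.Etale.comp (∀ i, S i) (S i) (T' i)
    have h2 : @Algebra.Etale (∀ i, S i) (∀ i, T' i) _ _ (Pi.algebra ι T') :=
      Algebra.FormallyEtale.instEtaleForallOfFinite T'
    have h2' : @Algebra.Etale (∀ i, S i) (∀ i, T' i) _ _ (Pi.instAlgebraForall T' S) := h2
    have h3 : Algebra.Etale (∀ i, S i) ((∀ i, S i) ⊗[R] T) := Algebra.Etale.of_equiv E.symm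
    exact Algebra.Etale.of_etale_tensorProduct_of_faithfullyFlat (∀ i, S i)
  · intro h i
    let e : (S i) ⊗[R] T ≃ₐ[S i] T' i := AlgEquiv.ofBijective
      (Algebra.TensorProduct.lift (Algebra.ofId (S i) (T' i)) (g i) (fun _ _ => Commute.all _ _)) (by
        have : ((Algebra.TensorProduct.lift (Algebra.ofId (S i) (T' i)) (g i)
            (fun _ _ => Commute.all _ _) : (S i) ⊗[R] T →ₐ[S i] T' i) : (S i) ⊗[R] T → T' i) =
            (hg i).equiv := by
          funext x
          induction x using TensorProduct.induction_on with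
          | zero => rw [map_zero, map_zero]
          | tmul b t =>
            rw [Algebra.TensorProduct.lift_tmul, IsBaseChange.equiv_tmul, Algebra.smul_def]
            rfl
          | add x y hx hy => rw [map_add, map_add, hx, hy]
        rw [this]
        exact (hg i).equiv.bijective)
    exact Algebra.Etale.of_equiv e

theorem faithfullyFlat_iff [hff : Module.FaithfullyFlat R (∀ i, S i)] (g : ∀ i, T →ₐ[R] T' i)
    (hg : ∀ i, IsBaseChange (S i) (g i).toLinearMap) :
    (∀ i, Module.FaithfullyFlat (S i) (T' i)) ↔ Module.FaithfullyFlat R T := by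
  constructor
  · intro h
    have hflat : Module.Flat R T := (flat_iff g hg).1 (fun i => inferInstance)
    apply Module.FaithfullyFlat.of_comap_surjective
    intro p
    obtain ⟨P, hP⟩ := PrimeSpectrum.comap_surjective_of_faithfullyFlat (A := R) (B := ∀ i, S i) p
    obtain ⟨⟨i, P'⟩, hP'⟩ := (PrimeSpectrum.sigmaToPi_bijective S).2 P
    obtain ⟨Q, hQ⟩ := PrimeSpectrum.comap_surjective_of_faithfullyFlat (A := S i) (B := T' i) P'
    refine ⟨PrimeSpectrum.comap (g i).toRingHom Q, ?_⟩
    rw [← hP, ← hP']
    apply PrimeSpectrum.ext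
    ext r
    change g i (algebraMap R T r) ∈ Q.asIdeal ↔ algebraMap R (S i) r ∈ P'.asIdeal
    rw [← hQ, (g i).commutes, IsScalarTower.algebraMap_apply R (S i) (T' i)]
    rfl
  · intro h i
    exact Module.FaithfullyFlat.of_linearEquiv (S i) ((S i) ⊗[R] T) (hg i).equiv.symm

section Modules

variable {ι : Type u} [Finite ι] {R A : Type u} [CommRing R] [CommRing A] [Algebra R A]
  (S : ι → Type u) [∀ i, CommRing (S i)] [∀ i, Algebra A (S i)]

/-- a map is bijective if it is so after base change to each member of a faithfully flat family -/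
theorem bijective_of_forall_lTensor [hff : Module.FaithfullyFlat A (∀ i, S i)] {N N' : Type u}
    [AddCommGroup N] [AddCommGroup N'] [Module A N] [Module A N'] (F : N →ₗ[A] N')
    (h : ∀ i, Function.Bijective (F.lTensor (S i))) : Function.Bijective F := by
  classical
  have := Fintype.ofFinite ι
  rw [← Module.FaithfullyFlat.lTensor_bijective_iff_bijective A (∀ i, S i) F]
  let L (P : Type u) [AddCommGroup P] [Module A P] : (∀ i, S i) ⊗[A] P ≃ₗ[A] (∀ i, S i ⊗[A] P) :=
    (TensorProduct.comm A _ _).trans ((TensorProduct.piRight A A P S).trans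
      (LinearEquiv.piCongrRight fun i => (TensorProduct.comm A _ _)))
  have hL : ∀ (P : Type u) [AddCommGroup P] [Module A P] (b : ∀ i, S i) (x : P) (i : ι),
      L P (b ⊗ₜ x) i = b i ⊗ₜ x := by
    intro P _ _ b x i
    change TensorProduct.comm A _ _ ((TensorProduct.piRight A A P S (x ⊗ₜ b)) i) = _
    rw [TensorProduct.piRight_apply, TensorProduct.piRightHom_tmul, TensorProduct.comm_tmul]
  have hcomm : ∀ x, L N' (F.lTensor (∀ i, S i) x) = fun i => F.lTensor (S i) (L N x i) := by
    intro x
    induction x using TensorProduct.induction_on with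
    | zero => funext i; simp
    | tmul b t =>
      funext i
      rw [LinearMap.lTensor_tmul, hL, hL, LinearMap.lTensor_tmul]
    | add x y hx hy =>
      rw [map_add, map_add, hx, hy, map_add]
      funext i
      rw [Pi.add_apply, Pi.add_apply, map_add]
  constructor
  · intro x y hxy
    apply (L N).injective
    funext i
    apply (h i).1
    have h1 := congrFun (hcomm x) i
    have h2 := congrFun (hcomm y) i
    rw [← h1, ← h2, hxy]
  · intro y
    choose z hz using fun i => (h i).2 (L N' y i)
    refine ⟨(L N).symm z, ?_⟩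
    apply (L N').injective
    rw [hcomm]
    funext i
    rw [LinearEquiv.apply_symm_apply, hz]

variable [∀ i, Algebra R (S i)] [∀ i, IsScalarTower R A (S i)]

/-- descent of base change -/
theorem isBaseChange_of_family [hff : Module.FaithfullyFlat A (∀ i, S i)] {M N : Type u}
    [AddCommGroup M] [AddCommGroup N] [Module R M] [Module R N] [Module A N] [IsScalarTower R A N]
    (f : M →ₗ[R] N) (P : ι → Type u) [∀ i, AddCommGroup (P i)] [∀ i, Module R (P i)]
    [∀ i, Module A (P i)] [∀ i, Module (S i) (P i)] [∀ i, IsScalarTower R A (P i)]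
    [∀ i, IsScalarTower A (S i) (P i)] [∀ i, IsScalarTower R (S i) (P i)]
    (g : ∀ i, N →ₗ[A] P i) (hg : ∀ i, IsBaseChange (S i) (g i))
    (hgf : ∀ i, IsBaseChange (S i) ((g i).restrictScalars R ∘ₗ f)) : IsBaseChange A f := by
  let F : A ⊗[R] M →ₗ[A] N := f.liftBaseChange A
  have hF : ∀ (s : A) (m : M), F (s ⊗ₜ m) = s • f m := fun s m => LinearMap.liftBaseChange_tmul _ _ _ _
  have hc : ∀ i, IsBaseChange (S i) (g i ∘ₗ F) := by
    intro i
    apply (TensorProduct.isBaseChange R M A).of_comp
    have : ((g i ∘ₗ F).restrictScalars R) ∘ₗ (TensorProduct.mk R A M 1) = (g i).restrictScalars R ∘ₗ f := by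
      ext m
      change g i (F (1 ⊗ₜ m)) = g i (f m)
      rw [hF, one_smul]
    rw [this]
    exact hgf i
  have hbij : Function.Bijective F := by
    apply bijective_of_forall_lTensor S F
    intro i
    have : (F.lTensor (S i) : S i ⊗[A] (A ⊗[R] M) → S i ⊗[A] N) =
        (hg i).equiv.symm ∘ (hc i).equiv := by
      funext x
      rw [Function.comp_apply, LinearEquiv.eq_symm_apply]
      induction x using TensorProduct.induction_on with
      | zero => rw [map_zero, map_zero, map_zero]
      | tmul b t =>
        rw [LinearMap.lTensor_tmul, IsBaseChange.equiv_tmul, IsBaseChange.equiv_tmul]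
        rfl
      | add x y hx hy => rw [map_add, map_add, map_add, hx, hy]
    rw [this]
    exact (hg i).equiv.symm.bijective.comp (hc i).equiv.bijective
  exact IsBaseChange.of_equiv (LinearEquiv.ofBijective F hbij) (fun m => by
    change F (1 ⊗ₜ m) = f m
    rw [hF, one_smul])

end Modules

end K868.Fam
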