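import Groth.Prelude.Def_SchFin2
import Groth.Agent.SchFin.K868.BC
import Groth.Agent.SchFin.K868.Family
import Mathlib.RingTheory.RingHom.Etale

/-! # Sections over affine sets of points, and descent of properties of algebras -/

set_option autoImplicit false

universe u

open TensorProduct SchFin

namespace K868.SchFin

variable {X : RSpace.{u}}

theorem isBCAlong_resSect (x : X.pt) (U : Set X.pt)
    (hU : U ⊆ X.up x) (hUa : (X.restrict U).IsAffine)
    (hff : Module.FaithfullyFlat (X.sectRing U) ((q : ↥U) → X.ring q.1)) (M : OMod X) (hM : M.IsQcoh) :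
    IsBCAlong (X.resSect x U hU) (M.resSect x U hU) := by
  letI : Algebra (X.ring x) (X.sectRing U) := (X.resSect x U hU).toAlgebra
  letI : ∀ q : U, Algebra (X.sectRing U) (X.ring q.1) := fun q => (X.evalRing U q).toAlgebra
  letI : ∀ q : U, Algebra (X.ring x) (X.ring q.1) := fun q => (X.res (hU q.2)).toAlgebra
  letI : Module (X.ring x) (M.sect U) := Module.compHom _ (X.resSect x U hU)
  letI : ∀ q : U, Module (X.sectRing U) (M.carrier q.1) := fun q => Module.compHom _ (X.evalRing U q)
  letI : ∀ q : U, Module (X.ring x) (M.carrier q.1) := fun q => Module.compHom _ (X.res (hU q.2))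
  haveI : IsScalarTower (X.ring x) (X.sectRing U) (M.sect U) :=
    IsScalarTower.of_algebraMap_smul fun _ _ => rfl
  haveI : ∀ q : U, IsScalarTower (X.ring x) (X.sectRing U) (X.ring q.1) := fun q =>
    IsScalarTower.of_algebraMap_eq fun _ => rfl
  haveI : ∀ q : U, IsScalarTower (X.ring x) (X.sectRing U) (M.carrier q.1) := fun q =>
    IsScalarTower.of_algebraMap_smul fun _ _ => rfl
  haveI : ∀ q : U, IsScalarTower (X.ring x) (X.ring q.1) (M.carrier q.1) := fun q =>
    IsScalarTower.of_algebraMap_smul fun _ _ => rfl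
  haveI : ∀ q : U, IsScalarTower (X.sectRing U) (X.ring q.1) (M.carrier q.1) := fun q =>
    IsScalarTower.of_algebraMap_smul fun _ _ => rfl
  haveI : Module.FaithfullyFlat (X.sectRing U) ((q : ↥U) → X.ring q.1) := hff
  let f : M.carrier x →ₗ[X.ring x] M.sect U :=
    { toFun := M.resSect x U hU, map_add' := map_add _, map_smul' := LinearMap.map_smulₛₗ _ }
  let g : ∀ q : U, M.sect U →ₗ[X.sectRing U] M.carrier q.1 := fun q =>
    { toFun := M.evalMod U q, map_add' := map_add _, map_smul' := LinearMap.map_smulₛₗ _ }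
  change IsBaseChange (X.sectRing U) f
  exact K868.Fam.isBaseChange_of_family (fun q : U => X.ring q.1) f (fun q : U => M.carrier q.1) g
    (fun q => isBCAlong_eval U hUa M hM q) (fun q => hM x q.1 (hU q.2))

section Algebra

variable (A : Alg X) (U : Set X.pt)

/-- evaluation of sections of an algebra as an algebra map over the sections of the rings -/
def evalAlg (q : U) :
    letI : Algebra (X.sectRing U) (A.total.sectRing U) := (A.sectMap U).toAlgebra
    letI : Algebra (X.sectRing U) (A.carrier q.1) := Algebra.compHom _ (X.evalRing U q)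
    A.total.sectRing U →ₐ[X.sectRing U] A.carrier q.1 :=
  letI : Algebra (X.sectRing U) (A.total.sectRing U) := (A.sectMap U).toAlgebra
  letI : Algebra (X.sectRing U) (A.carrier q.1) := Algebra.compHom _ (X.evalRing U q)
  { A.total.evalRing U q with
    commutes' := fun _ => rfl }

variable {A U}

theorem isBaseChange_evalAlg (hUa : (X.restrict U).IsAffine) (hA : A.IsQcoh) (q : U) :
    letI : Algebra (X.sectRing U) (A.total.sectRing U) := (A.sectMap U).toAlgebra
    letI : Algebra (X.sectRing U) (X.ring q.1) := (X.evalRing U q).toAlgebra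
    letI : Algebra (X.sectRing U) (A.carrier q.1) := Algebra.compHom _ (X.evalRing U q)
    haveI : IsScalarTower (X.sectRing U) (X.ring q.1) (A.carrier q.1) :=
      IsScalarTower.of_algebraMap_eq fun _ => rfl
    IsBaseChange (X.ring q.1) (evalAlg A U q).toLinearMap := by
  letI i1 : Algebra (X.sectRing U) (A.total.sectRing U) := (A.sectMap U).toAlgebra
  letI : Algebra (X.sectRing U) (X.ring q.1) := (X.evalRing U q).toAlgebra
  letI : Algebra (X.sectRing U) (A.carrier q.1) := Algebra.compHom _ (X.evalRing U q)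
  haveI : IsScalarTower (X.sectRing U) (X.ring q.1) (A.carrier q.1) :=
    IsScalarTower.of_algebraMap_eq fun _ => rfl
  have h := isBCAlong_eval U hUa A.toMod hA q
  let e : A.total.sectRing U ≃ₗ[X.sectRing U] A.toMod.sect U :=
    { toFun := fun s => ⟨s.1, s.2⟩
      invFun := fun s => ⟨s.1, s.2⟩
      left_inv := fun _ => rfl
      right_inv := fun _ => rfl
      map_add' := fun _ _ => rfl
      map_smul' := fun r s => by
        apply Subtype.ext
        funext q
        have key : ∀ (a : X.ring q.1) (b : A.carrier q.1),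
            algebraMap (X.ring q.1) (A.carrier q.1) a * b = a • b := fun a b => (Algebra.smul_def a b).symm
        exact key (r.1 q) (s.1 q) }
  let g : A.toMod.sect U →ₗ[X.sectRing U] A.carrier q.1 :=
    { toFun := A.toMod.evalMod U q
      map_add' := fun _ _ => rfl
      map_smul' := fun _ _ => rfl }
  have h' : IsBaseChange (X.ring q.1) g := h
  have := IsBaseChange.comp_equiv e g h'
  exact this

theorem flat_iff_sectMap (hUa : (X.restrict U).IsAffine) (hA : A.IsQcoh)
    (hφ : Module.FaithfullyFlat (X.sectRing U) ((q : ↥U) → X.ring q.1)) :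
    (∀ q : X.pt, q ∈ U → Module.Flat (X.ring q) (A.carrier q)) ↔ (A.sectMap U).Flat := by
  letI i1 : Algebra (X.sectRing U) (A.total.sectRing U) := (A.sectMap U).toAlgebra
  letI : ∀ q : U, Algebra (X.sectRing U) (X.ring q.1) := fun q => (X.evalRing U q).toAlgebra
  letI : ∀ q : U, Algebra (X.sectRing U) (A.carrier q.1) := fun q => Algebra.compHom _ (X.evalRing U q)
  haveI : ∀ q : U, IsScalarTower (X.sectRing U) (X.ring q.1) (A.carrier q.1) := fun q =>
    IsScalarTower.of_algebraMap_eq fun _ => rfl
  haveI : Module.FaithfullyFlat (X.sectRing U) ((q : ↥U) → X.ring q.1) := hφ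
  have := K868.Fam.flat_iff (S := fun q : U => X.ring q.1) (T' := fun q : U => A.carrier q.1)
    (fun q => evalAlg A U q) (fun q => isBaseChange_evalAlg hUa hA q)
  refine Iff.trans ⟨fun h (q : U) => h q.1 q.2, fun h q hq => h ⟨q, hq⟩⟩ this

theorem faithfullyFlat_iff_sectMap (hUa : (X.restrict U).IsAffine) (hA : A.IsQcoh)
    (hφ : Module.FaithfullyFlat (X.sectRing U) ((q : ↥U) → X.ring q.1)) :
    (∀ q : X.pt, q ∈ U → Module.FaithfullyFlat (X.ring q) (A.carrier q)) ↔
      (A.sectMap U).FaithfullyFlat := by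
  letI i1 : Algebra (X.sectRing U) (A.total.sectRing U) := (A.sectMap U).toAlgebra
  letI : ∀ q : U, Algebra (X.sectRing U) (X.ring q.1) := fun q => (X.evalRing U q).toAlgebra
  letI : ∀ q : U, Algebra (X.sectRing U) (A.carrier q.1) := fun q => Algebra.compHom _ (X.evalRing U q)
  haveI : ∀ q : U, IsScalarTower (X.sectRing U) (X.ring q.1) (A.carrier q.1) := fun q =>
    IsScalarTower.of_algebraMap_eq fun _ => rfl
  haveI : Module.FaithfullyFlat (X.sectRing U) ((q : ↥U) → X.ring q.1) := hφ
  have := K868.Fam.faithfullyFlat_iff (S := fun q : U => X.ring q.1) (T' := fun q : U => A.carrier q.1)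
    (fun q => evalAlg A U q) (fun q => isBaseChange_evalAlg hUa hA q)
  refine Iff.trans ⟨fun h (q : U) => h q.1 q.2, fun h q hq => h ⟨q, hq⟩⟩ this

theorem finite_iff_sectMap (hUa : (X.restrict U).IsAffine) (hA : A.IsQcoh)
    (hφ : Module.FaithfullyFlat (X.sectRing U) ((q : ↥U) → X.ring q.1)) :
    (∀ q : X.pt, q ∈ U → Module.Finite (X.ring q) (A.carrier q)) ↔ (A.sectMap U).Finite := by
  letI i1 : Algebra (X.sectRing U) (A.total.sectRing U) := (A.sectMap U).toAlgebra
  letI : ∀ q : U, Algebra (X.sectRing U) (X.ring q.1) := fun q => (X.evalRing U q).toAlgebra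
  letI : ∀ q : U, Algebra (X.sectRing U) (A.carrier q.1) := fun q => Algebra.compHom _ (X.evalRing U q)
  haveI : ∀ q : U, IsScalarTower (X.sectRing U) (X.ring q.1) (A.carrier q.1) := fun q =>
    IsScalarTower.of_algebraMap_eq fun _ => rfl
  haveI : Module.FaithfullyFlat (X.sectRing U) ((q : ↥U) → X.ring q.1) := hφ
  have := K868.Fam.finite_iff (S := fun q : U => X.ring q.1) (T' := fun q : U => A.carrier q.1)
    (fun q => evalAlg A U q) (fun q => isBaseChange_evalAlg hUa hA q)
  refine Iff.trans ⟨fun h (q : U) => h q.1 q.2, fun h q hq => h ⟨q, hq⟩⟩ this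

theorem etale_iff_sectMap (hUa : (X.restrict U).IsAffine) (hA : A.IsQcoh)
    (hφ : Module.FaithfullyFlat (X.sectRing U) ((q : ↥U) → X.ring q.1)) :
    (∀ q : X.pt, q ∈ U → Algebra.Etale (X.ring q) (A.carrier q)) ↔ (A.sectMap U).Etale := by
  letI i1 : Algebra (X.sectRing U) (A.total.sectRing U) := (A.sectMap U).toAlgebra
  letI : ∀ q : U, Algebra (X.sectRing U) (X.ring q.1) := fun q => (X.evalRing U q).toAlgebra
  letI : ∀ q : U, Algebra (X.sectRing U) (A.carrier q.1) := fun q => Algebra.compHom _ (X.evalRing U q)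
  haveI : ∀ q : U, IsScalarTower (X.sectRing U) (X.ring q.1) (A.carrier q.1) := fun q =>
    IsScalarTower.of_algebraMap_eq fun _ => rfl
  haveI : Module.FaithfullyFlat (X.sectRing U) ((q : ↥U) → X.ring q.1) := hφ
  have := K868.Fam.etale_iff (S := fun q : U => X.ring q.1) (T' := fun q : U => A.carrier q.1)
    (fun q => evalAlg A U q) (fun q => isBaseChange_evalAlg hUa hA q)
  refine Iff.trans ⟨fun h (q : U) => h q.1 q.2, fun h q hq => h ⟨q, hq⟩⟩ this

end Algebra

end K868.SchFin
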