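import Groth.Prelude.Def_SchFin2
import Groth.Agent.SchFin.K868.BC
import Mathlib.Algebra.Category.Ring.Constructions

/-! # Algebras over a finite ringed poset: base change squares -/

set_option autoImplicit false

universe u

open TensorProduct SchFin CategoryTheory Limits

namespace K868.SchFin

variable {X : RSpace.{u}}

section

variable (A : Alg X) {p q : X.pt} (h : p ≤ q)

/-- the ring of a larger point as an algebra over the ring of a smaller one -/
abbrev ai {p q : X.pt} (h : p ≤ q) : Algebra (X.ring p) (X.ring q) := (X.res h).toAlgebra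

/-- the algebra at a larger point as an algebra over the ring of a smaller one -/
abbrev aiA {p q : X.pt} (h : p ≤ q) : Algebra (X.ring p) (A.carrier q) :=
  Algebra.compHom (A.carrier q) (X.res h)

/-- restriction as an algebra map -/
def resAlg : letI := aiA A h; A.carrier p →ₐ[X.ring p] A.carrier q :=
  letI := aiA A h
  { A.res h with commutes' := fun r => A.res_algebraMap h r }

end

lemma isBCAlong_iff_isPushout (A : Alg X) {p q : X.pt} (h : p ≤ q) :
    IsBCAlong (X.res h) (A.toMod.res h) ↔
      IsPushout (CommRingCat.ofHom (X.res h)) (CommRingCat.ofHom (algebraMap (X.ring p) (A.carrier p)))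
        (CommRingCat.ofHom (algebraMap (X.ring q) (A.carrier q))) (CommRingCat.ofHom (A.res h)) := by
  letI := ai (X := X) h
  letI := aiA A h
  letI : Algebra (A.carrier p) (A.carrier q) := (A.res h).toAlgebra
  haveI : IsScalarTower (X.ring p) (X.ring q) (A.carrier q) := IsScalarTower.of_algebraMap_eq fun _ => rfl
  haveI : IsScalarTower (X.ring p) (A.carrier p) (A.carrier q) :=
    IsScalarTower.of_algebraMap_eq fun r => (A.res_algebraMap h r).symm
  have h1 := CommRingCat.isPushout_iff_isPushout (R := X.ring p) (R' := X.ring q) (S := A.carrier p)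
    (S' := A.carrier q)
  refine Iff.trans ?_ h1.symm
  constructor
  · intro hb
    exact ⟨hb⟩
  · intro hb
    exact hb.out

lemma isQcoh_iff_isPushout (A : Alg X) : A.IsQcoh ↔ ∀ (p q : X.pt) (h : p ≤ q),
      IsPushout (CommRingCat.ofHom (X.res h)) (CommRingCat.ofHom (algebraMap (X.ring p) (A.carrier p)))
        (CommRingCat.ofHom (algebraMap (X.ring q) (A.carrier q))) (CommRingCat.ofHom (A.res h)) := by
  refine ⟨fun hA p q h => (isBCAlong_iff_isPushout A h).1 (hA p q h),
    fun hA p q h => (isBCAlong_iff_isPushout A h).2 (hA p q h)⟩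

/-- the base change equivalence of a quasi-coherent algebra -/
theorem exists_bcAlgEquiv {A : Alg X} (hA : A.IsQcoh) {p q : X.pt} (h : p ≤ q) :
    letI := ai (X := X) h
    ∃ e : (X.ring q ⊗[X.ring p] A.carrier p) ≃ₐ[X.ring q] A.carrier q,
      ∀ s a, e (s ⊗ₜ a) = s • A.res h a := by
  letI := ai (X := X) h
  letI := aiA A h
  haveI : IsScalarTower (X.ring p) (X.ring q) (A.carrier q) := IsScalarTower.of_algebraMap_eq fun _ => rfl
  have hb := hA p q h
  let E : (X.ring q ⊗[X.ring p] A.carrier p) →ₐ[X.ring q] A.carrier q :=
    Algebra.TensorProduct.lift (Algebra.ofId _ _) (resAlg A h) (fun _ _ => Commute.all _ _)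
  have hE : ∀ s a, E (s ⊗ₜ a) = s • A.res h a := by
    intro s a
    change Algebra.TensorProduct.lift (Algebra.ofId _ _) (resAlg A h) _ (s ⊗ₜ a) = _
    rw [Algebra.TensorProduct.lift_tmul, Algebra.smul_def]
    rfl
  have hbij : Function.Bijective E := by
    have : (E : (X.ring q ⊗[X.ring p] A.carrier p) → A.carrier q) = bcEquiv (X.res h) hb := by
      funext x
      induction x using TensorProduct.induction_on with
      | zero => rw [map_zero]; exact (map_zero (bcEquiv (X.res h) hb)).symm
      | tmul s a =>
        rw [hE]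
        exact (bcEquiv_tmul (X.res h) hb s a).symm
      | add x y hx hy =>
        rw [map_add, hx, hy]
        exact (map_add (bcEquiv (X.res h) hb) x y).symm
    rw [this]
    exact (bcEquiv (X.res h) hb).bijective
  exact ⟨AlgEquiv.ofBijective E hbij, hE⟩

/-- converse: quasi-coherence from algebra equivalences -/
lemma isBCAlong_of_algEquiv (A : Alg X) {p q : X.pt} (h : p ≤ q)
    (e : letI := ai (X := X) h; (X.ring q ⊗[X.ring p] A.carrier p) ≃ₐ[X.ring q] A.carrier q)
    (he : letI := ai (X := X) h; ∀ a : A.carrier p, e (1 ⊗ₜ a) = A.res h a) :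
    IsBCAlong (X.res h) (A.toMod.res h) :=
  isBCAlong_of_equiv (X.res h) (A.toMod.res h) (letI := ai (X := X) h; e.toLinearEquiv) he

/-- `IsBCAlong` from a bijective additive comparison map -/
lemma isBCAlong_of_addMonoidHom {R S : Type u} [CommRing R] [CommRing S] (g : R →+* S)
    {M N : Type u} [AddCommGroup M] [AddCommGroup N] [Module R M] [Module S N] (f : M →ₛₗ[g] N)
    (F : letI : Algebra R S := g.toAlgebra; S ⊗[R] M →+ N)
    (hF : letI : Algebra R S := g.toAlgebra; ∀ (s : S) (m : M), F (s ⊗ₜ m) = s • f m)
    (hb : Function.Bijective F) : IsBCAlong g f := by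
  letI : Algebra R S := g.toAlgebra
  let L : S ⊗[R] M →ₗ[S] N :=
    { toFun := F
      map_add' := map_add F
      map_smul' := fun s t => by
        rw [RingHom.id_apply]
        induction t using TensorProduct.induction_on with
        | zero => rw [smul_zero, map_zero, smul_zero]
        | tmul a m => rw [TensorProduct.smul_tmul', hF, hF, smul_eq_mul, mul_smul]
        | add x y hx hy => rw [smul_add, map_add, map_add, smul_add, hx, hy] }
  exact isBCAlong_of_equiv g f (LinearEquiv.ofBijective L hb) (fun m => by
    change F (1 ⊗ₜ m) = f m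
    rw [hF, one_smul])

/-- a morphism of étale covers bijective at every point is an isomorphism -/
theorem isIso_of_bijective {A B : FEt X} (f : A ⟶ B)
    (hf : ∀ p : X.pt, Function.Bijective (f.hom.app p)) : IsIso f := by
  let e : ∀ p, A.obj.carrier p ≃ₐ[X.ring p] B.obj.carrier p := fun p => AlgEquiv.ofBijective _ (hf p)
  let g : B.obj ⟶ A.obj :=
    { app := fun p => (e p).symm.toAlgHom
      compat := fun {p q} h b => by
        obtain ⟨a, rfl⟩ := (hf p).2 b
        change A.obj.res h ((e p).symm (e p a)) = (e q).symm (B.obj.res h (f.hom.app p a))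
        rw [AlgEquiv.symm_apply_apply, f.hom.compat]
        exact ((e q).symm_apply_apply _).symm }
  refine ⟨⟨ObjectProperty.homMk g, ?_, ?_⟩⟩
  · apply ObjectProperty.hom_ext
    apply Alg.hom_ext
    intro p
    ext a
    exact (e p).symm_apply_apply a
  · apply ObjectProperty.hom_ext
    apply Alg.hom_ext
    intro p
    ext a
    exact (e p).apply_symm_apply a

end K868.SchFin
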