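import Groth.Prelude.Def_SchFin2
import Groth.Agent.SchFin.K868.AlgBasic
import Mathlib.RingTheory.RingHom.Etale
import Mathlib.RingTheory.RingHom.Finite
import Mathlib.RingTheory.RingHomProperties
import Mathlib.CategoryTheory.Limits.Shapes.Pullback.IsPullback.Basic

/-! # Initial object and pushouts of étale covers -/

set_option autoImplicit false

universe u

open TensorProduct SchFin CategoryTheory Limits

namespace K868.SchFin

variable {X : RSpace.{u}}

/-- the rings themselves are an étale cover -/
theorem str_isEtCover (X : RSpace.{u}) : (Alg.str X).IsEtCover := by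
  refine ⟨fun p q h => ?_, fun p => ?_⟩
  · letI := ai (X := X) h
    refine isBCAlong_of_algEquiv (Alg.str X) h (Algebra.TensorProduct.rid (X.ring p) (X.ring q) (X.ring q)) ?_
    intro a
    change Algebra.TensorProduct.rid (X.ring p) (X.ring q) (X.ring q) (1 ⊗ₜ a) = X.res h a
    rw [Algebra.TensorProduct.rid_tmul, Algebra.smul_def, mul_one]
    rfl
  · exact ⟨(inferInstance : Module.Finite (X.ring p) (X.ring p)),
      (inferInstance : Algebra.Etale (X.ring p) (X.ring p))⟩

/-- the structure algebra as an étale cover -/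
def strF (X : RSpace.{u}) : FEt X := ⟨Alg.str X, str_isEtCover X⟩

/-- the structure map of an algebra -/
def strHom (A : Alg X) : Alg.str X ⟶ A where
  app p := Algebra.ofId (X.ring p) (A.carrier p)
  compat h b := A.res_algebraMap h b

/-- the structure algebra is initial -/
def isInitialStrF (X : RSpace.{u}) : IsInitial (strF X) :=
  IsInitial.ofUniqueHom (fun A => ObjectProperty.homMk (strHom A.obj)) (fun A m => by
    apply ObjectProperty.hom_ext
    apply Alg.hom_ext
    intro p
    apply AlgHom.ext
    intro b
    have h1 : (algebraMap (X.ring p) ((strF X).obj.carrier p)) b = b := rfl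
    have h2 := (m.hom.app p).commutes b
    rw [h1] at h2
    exact h2)

/-- the ring map at a point of a morphism of algebras, in the category of rings -/
abbrev fp {A B : Alg X} (f : A ⟶ B) (p : X.pt) :
    CommRingCat.of (A.carrier p) ⟶ CommRingCat.of (B.carrier p) :=
  CommRingCat.ofHom (f.app p).toRingHom

/-- a restriction map of an algebra, in the category of rings -/
abbrev rp (A : Alg X) {p q : X.pt} (h : p ≤ q) :
    CommRingCat.of (A.carrier p) ⟶ CommRingCat.of (A.carrier q) :=
  CommRingCat.ofHom (A.res h)

/-- the structure map of an algebra, in the category of rings -/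
abbrev sp (A : Alg X) (p : X.pt) :
    CommRingCat.of (X.ring p) ⟶ CommRingCat.of (A.carrier p) :=
  CommRingCat.ofHom (algebraMap (X.ring p) (A.carrier p))

lemma sp_fp {A B : Alg X} (f : A ⟶ B) (p : X.pt) : sp A p ≫ fp f p = sp B p := by
  ext r
  exact (f.app p).commutes r

lemma rp_fp {A B : Alg X} (f : A ⟶ B) {p q : X.pt} (h : p ≤ q) : rp A h ≫ fp f q = fp f p ≫ rp B h := by
  ext r
  exact (f.compat h r).symm

/-- naturality squares of quasi-coherent algebras are pushouts -/
theorem isPushout_rp_fp {A B : Alg X} (hA : A.IsQcoh) (hB : B.IsQcoh) (f : A ⟶ B) {p q : X.pt}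
    (h : p ≤ q) : IsPushout (rp A h) (fp f p) (fp f q) (rp B h) := by
  have h1 := (isQcoh_iff_isPushout A).1 hA p q h
  have h2 := (isQcoh_iff_isPushout B).1 hB p q h
  refine IsPushout.of_top (h₁₁ := CommRingCat.ofHom (X.res h)) (v₁₁ := sp A p) (v₁₂ := sp A q) ?_
    (rp_fp f h) h1
  rw [sp_fp, sp_fp]
  exact h2

section Pushout

variable {A B C : Alg X} (f : A ⟶ B) (g : A ⟶ C)

/-- the restriction maps of the pushout -/
noncomputable def poRes {p q : X.pt} (h : p ≤ q) :
    pushout (fp f p) (fp g p) ⟶ pushout (fp f q) (fp g q) :=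
  pushout.map _ _ _ _ (rp B h) (rp C h) (rp A h) (rp_fp f h).symm (rp_fp g h).symm

lemma inl_poRes {p q : X.pt} (h : p ≤ q) : pushout.inl (fp f p) (fp g p) ≫ poRes f g h =
    rp B h ≫ pushout.inl (fp f q) (fp g q) := by
  unfold poRes pushout.map
  exact pushout.inl_desc _ _ _

lemma inr_poRes {p q : X.pt} (h : p ≤ q) : pushout.inr (fp f p) (fp g p) ≫ poRes f g h =
    rp C h ≫ pushout.inr (fp f q) (fp g q) := by
  unfold poRes pushout.map
  exact pushout.inr_desc _ _ _

lemma rp_self (A : Alg X) (p : X.pt) : rp A (le_refl p) = 𝟙 _ := by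
  ext b
  exact A.res_self p b

lemma rp_comp (A : Alg X) {p q s : X.pt} (h : p ≤ q) (h' : q ≤ s) : rp A h ≫ rp A h' = rp A (h.trans h') := by
  ext b
  exact A.res_comp h h' b

lemma poRes_self (p : X.pt) : poRes f g (le_refl p) = 𝟙 _ := by
  apply pushout.hom_ext
  · rw [inl_poRes, rp_self, Category.id_comp, Category.comp_id]
  · rw [inr_poRes, rp_self, Category.id_comp, Category.comp_id]

lemma poRes_comp {p q s : X.pt} (h : p ≤ q) (h' : q ≤ s) :
    poRes f g h ≫ poRes f g h' = poRes f g (h.trans h') := by
  apply pushout.hom_ext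
  · rw [← Category.assoc, inl_poRes, Category.assoc, inl_poRes, inl_poRes, ← rp_comp B h h', Category.assoc]
  · rw [← Category.assoc, inr_poRes, Category.assoc, inr_poRes, inr_poRes, ← rp_comp C h h', Category.assoc]

/-- pushout of algebras -/
noncomputable def poAlg : Alg X where
  carrier p := ((pushout (fp f p) (fp g p) : CommRingCat.{u}) : Type u)
  instRing p := inferInstance
  instAlg p := ((pushout.inl (fp f p) (fp g p)).hom.comp (algebraMap (X.ring p) (B.carrier p))).toAlgebra
  res h := (poRes f g h).hom
  res_algebraMap {p q} h a := by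
    have h1 := congrArg (fun k => k.hom (algebraMap (X.ring p) (B.carrier p) a)) (inl_poRes f g h)
    refine h1.trans ?_
    change (pushout.inl (fp f q) (fp g q)).hom (B.res h (algebraMap (X.ring p) (B.carrier p) a)) = _
    rw [B.res_algebraMap]
    rfl
  res_self p b := by
    rw [poRes_self]
    rfl
  res_comp h h' b := by
    rw [← poRes_comp f g h h']
    rfl

/-- left inclusion -/
noncomputable def poInl : B ⟶ poAlg f g where
  app p := { (pushout.inl (fp f p) (fp g p)).hom with commutes' := fun _ => rfl }
  compat {p q} h b := congrArg (fun k => k.hom b) (inl_poRes f g h)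

/-- right inclusion -/
noncomputable def poInr : C ⟶ poAlg f g where
  app p := { (pushout.inr (fp f p) (fp g p)).hom with
    commutes' := fun r => by
      have h1 := congrArg (fun k => k.hom (algebraMap (X.ring p) (A.carrier p) r))
        (pushout.condition (f := fp f p) (g := fp g p))
      change (pushout.inr (fp f p) (fp g p)).hom (algebraMap _ _ r) =
        (pushout.inl (fp f p) (fp g p)).hom (algebraMap _ _ r)
      rw [← (f.app p).commutes, ← (g.app p).commutes]
      exact h1.symm }
  compat {p q} h b := congrArg (fun k => k.hom b) (inr_poRes f g h)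

lemma isPushout_po (p : X.pt) : IsPushout (fp f p) (fp g p) (fp (poInl f g) p) (fp (poInr f g) p) :=
  IsPushout.of_hasPushout (fp f p) (fp g p)

theorem poAlg_isQcoh (hA : A.IsQcoh) (hB : B.IsQcoh) (hC : C.IsQcoh) : (poAlg f g).IsQcoh := by
  rw [isQcoh_iff_isPushout]
  intro p q h
  have h1 := isPushout_rp_fp hA hC g h
  have h2 := isPushout_po f g q
  have h3 : IsPushout (rp A h ≫ fp f q) (fp g p) (fp (poInl f g) q) (rp C h ≫ fp (poInr f g) q) :=
    h1.paste_horiz h2
  rw [rp_fp, rp_fp] at h3
  have h4 : IsPushout (rp B h) (fp (poInl f g) p) (fp (poInl f g) q) (rp (poAlg f g) h) :=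
    IsPushout.of_left h3 (rp_fp (poInl f g) h) (isPushout_po f g p)
  have h5 := ((isQcoh_iff_isPushout B).1 hB p q h).paste_vert h4
  exact h5

end Pushout

section FE

/-- maps between finite étale algebras are finite étale -/
lemma finite_etale_of_algHom {R A B : Type u} [CommRing R] [CommRing A] [CommRing B] [Algebra R A]
    [Algebra R B] [Module.Finite R A] [Algebra.Etale R A] [Module.Finite R B] [Algebra.Etale R B]
    (f : A →ₐ[R] B) : f.toRingHom.Finite ∧ f.toRingHom.Etale := by
  let _ : Algebra A B := f.toRingHom.toAlgebra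
  have : IsScalarTower R A B := IsScalarTower.of_algebraMap_eq fun r => (f.commutes r).symm
  have h1 : Module.Finite A B := Module.Finite.of_restrictScalars_finite R A B
  have h2 : Algebra.FormallyEtale A B := Algebra.FormallyEtale.of_restrictScalars (R := R)
  have h3 : Algebra.FinitePresentation A B :=
    Algebra.FinitePresentation.of_restrict_scalars_finitePresentation R A B
  have h4 : Algebra.Etale A B := { }
  refine ⟨h1, ?_⟩
  exact (RingHom.etale_algebraMap (R := A) (S := B)).2 h4

end FE

theorem poAlg_isEtCover {A B C : Alg X} (f : A ⟶ B) (g : A ⟶ C) (hA : A.IsEtCover) (hB : B.IsEtCover)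
    (hC : C.IsEtCover) : (poAlg f g).IsEtCover := by
  refine ⟨poAlg_isQcoh f g hA.1 hB.1 hC.1, fun p => ?_⟩
  have h1 := (hA.2 p).1
  have h2 := (hA.2 p).2
  have h3 := (hB.2 p).1
  have h4 := (hB.2 p).2
  have h5 := (hC.2 p).1
  have h6 := (hC.2 p).2
  obtain ⟨hgf, hge⟩ := finite_etale_of_algHom (g.app p)
  have k1 : (pushout.inl (fp f p) (fp g p)).hom.Finite :=
    RingHom.finite_isStableUnderBaseChange.pushout_inl RingHom.finite_respectsIso (fp f p) (fp g p) hgf
  have k2 : (pushout.inl (fp f p) (fp g p)).hom.Etale :=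
    RingHom.Etale.isStableUnderBaseChange.pushout_inl RingHom.Etale.respectsIso (fp f p) (fp g p) hge
  have h3' : (algebraMap (X.ring p) (B.carrier p)).Finite := RingHom.finite_algebraMap.2 h3
  have h4' : (algebraMap (X.ring p) (B.carrier p)).Etale := RingHom.etale_algebraMap.2 h4
  have m1 : (algebraMap (X.ring p) ((poAlg f g).carrier p)).Finite := k1.comp h3'
  have m2 : (algebraMap (X.ring p) ((poAlg f g).carrier p)).Etale :=
    RingHom.Etale.stableUnderComposition _ _ h4' k2
  exact ⟨RingHom.finite_algebraMap.1 m1, RingHom.etale_algebraMap.1 m2⟩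

/-- A cocone of étale covers which is a pushout of rings at every point is a pushout. -/
theorem isPushout_of_forall {A B C D : FEt X} (f : A ⟶ B) (g : A ⟶ C) (i : B ⟶ D) (j : C ⟶ D)
    (h : ∀ p, IsPushout (fp f.hom p) (fp g.hom p) (fp i.hom p) (fp j.hom p)) :
    IsPushout f g i j := by
  have w : f ≫ i = g ≫ j := by
    apply ObjectProperty.hom_ext
    apply Alg.hom_ext
    intro p
    ext b
    exact congrArg (fun k => k.hom b) (h p).w
  have hex : ∀ (T : FEt X) (s : B ⟶ T) (t : C ⟶ T), f ≫ s = g ≫ t →
      ∃! l : D ⟶ T, i ≫ l = s ∧ j ≫ l = t := by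
    intro T s t hst
    have hst' : ∀ p, fp f.hom p ≫ fp s.hom p = fp g.hom p ≫ fp t.hom p := by
      intro p
      ext b
      exact AlgHom.congr_fun (congrArg (fun k : A ⟶ T => k.hom.app p) hst) b
    let l : ∀ p, CommRingCat.of (D.obj.carrier p) ⟶ CommRingCat.of (T.obj.carrier p) := fun p =>
      (h p).desc (fp s.hom p) (fp t.hom p) (hst' p)
    have hl1 : ∀ p, fp i.hom p ≫ l p = fp s.hom p := fun p => (h p).inl_desc _ _ _
    have hl2 : ∀ p, fp j.hom p ≫ l p = fp t.hom p := fun p => (h p).inr_desc _ _ _
    let l' : D.obj ⟶ T.obj :=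
      { app := fun p =>
          { (l p).hom with
            commutes' := fun r => by
              have h1 := congrArg (fun k => k.hom (algebraMap (X.ring p) (B.obj.carrier p) r)) (hl1 p)
              change (l p).hom (algebraMap _ _ r) = _
              rw [← (i.hom.app p).commutes]
              refine h1.trans ?_
              exact (s.hom.app p).commutes r }
        compat := fun {p q} hpq b => by
          have hcomp : l p ≫ rp T.obj hpq = rp D.obj hpq ≫ l q := by
            apply (h p).hom_ext
            · rw [← Category.assoc, hl1, ← Category.assoc, ← rp_fp i.hom, Category.assoc, hl1, rp_fp]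
            · rw [← Category.assoc, hl2, ← Category.assoc, ← rp_fp j.hom, Category.assoc, hl2, rp_fp]
          exact congrArg (fun k => k.hom b) hcomp }
    refine ⟨ObjectProperty.homMk l', ⟨?_, ?_⟩, fun m hm => ?_⟩
    · apply ObjectProperty.hom_ext
      apply Alg.hom_ext
      intro p
      ext b
      exact congrArg (fun k => k.hom b) (hl1 p)
    · apply ObjectProperty.hom_ext
      apply Alg.hom_ext
      intro p
      ext b
      exact congrArg (fun k => k.hom b) (hl2 p)
    · apply ObjectProperty.hom_ext
      apply Alg.hom_ext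
      intro p
      have : fp m.hom p = l p := by
        apply (h p).hom_ext
        · rw [hl1, ← hm.1]
          rfl
        · rw [hl2, ← hm.2]
          rfl
      ext b
      exact congrArg (fun k => k.hom b) this
  refine ⟨⟨w⟩, ⟨PushoutCocone.IsColimit.mk w
    (fun s => (hex s.pt s.inl s.inr s.condition).choose)
    (fun s => (hex s.pt s.inl s.inr s.condition).choose_spec.1.1)
    (fun s => (hex s.pt s.inl s.inr s.condition).choose_spec.1.2)
    (fun s m h1 h2 => (hex s.pt s.inl s.inr s.condition).choose_spec.2 m ⟨h1, h2⟩)⟩⟩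

instance hasInitial : HasInitial (FEt X) := (isInitialStrF X).hasInitial

/-- the pushout of étale covers -/
noncomputable def poF {A B C : FEt X} (f : A ⟶ B) (g : A ⟶ C) : FEt X :=
  ⟨poAlg f.hom g.hom, poAlg_isEtCover f.hom g.hom A.property B.property C.property⟩

theorem isPushout_poF {A B C : FEt X} (f : A ⟶ B) (g : A ⟶ C) :
    IsPushout f g (ObjectProperty.homMk (poInl f.hom g.hom) : B ⟶ poF f g)
      (ObjectProperty.homMk (poInr f.hom g.hom) : C ⟶ poF f g) :=
  isPushout_of_forall f g _ _ (fun p => isPushout_po f.hom g.hom p)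

instance hasPushouts : HasPushouts (FEt X) :=
  haveI : ∀ {A B C : FEt X} {f : A ⟶ B} {g : A ⟶ C}, HasColimit (span f g) :=
    fun {A B C f g} => (isPushout_poF f g).hasPushout
  hasPushouts_of_hasColimit_span (FEt X)

end K868.SchFin
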