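import Groth.Prelude.Def_SchFin2
import Groth.Agent.SchFin.K868.AlgBasic
import Groth.Agent.Pi1B.FEtEqualizer
import Mathlib.RingTheory.TensorProduct.IsBaseChangePi
import Mathlib.RingTheory.Etale.Pi
import Mathlib.CategoryTheory.Limits.Constructions.LimitsOfProductsAndEqualizers
import Mathlib.CategoryTheory.Limits.Shapes.SingleObj

/-! # Finite limits of étale covers -/

set_option autoImplicit false

universe u

open TensorProduct SchFin CategoryTheory Limits

namespace K868.SchFin

variable {X : RSpace.{u}}

section Pi

variable {ι : Type} [Finite ι] (A : ι → Alg X)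

/-- product of a finite family of algebras -/
def piAlg : Alg X where
  carrier p := ∀ i, (A i).carrier p
  res h := RingHom.pi fun i => ((A i).res h).comp (Pi.evalRingHom _ i)
  res_algebraMap h a := funext fun i => (A i).res_algebraMap h a
  res_self p b := funext fun i => (A i).res_self p (b i)
  res_comp h h' b := funext fun i => (A i).res_comp h h' (b i)

/-- projection -/
def piProj (i : ι) : piAlg A ⟶ A i where
  app p := Pi.evalAlgHom (X.ring p) (fun i => (A i).carrier p) i
  compat _ _ := rfl

omit [Finite ι] in
/-- universal map -/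
def piLift (T : Alg X) (g : ∀ i, T ⟶ A i) : T ⟶ piAlg A where
  app p := AlgHom.pi fun i => (g i).app p
  compat h b := funext fun i => (g i).compat h b

theorem piAlg_isEtCover (hA : ∀ i, (A i).IsEtCover) : (piAlg A).IsEtCover := by
  refine ⟨fun p q h => ?_, fun p => ?_⟩
  · letI := ai (X := X) h
    letI : ∀ i, Module (X.ring p) ((A i).carrier q) := fun i => Module.compHom _ (X.res h)
    haveI : ∀ i, IsScalarTower (X.ring p) (X.ring q) ((A i).carrier q) := fun i =>
      IsScalarTower.of_algebraMap_smul fun _ _ => rfl
    let g : ∀ i, (A i).carrier p →ₗ[X.ring p] (A i).carrier q := fun i =>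
      { toFun := (A i).res h
        map_add' := map_add _
        map_smul' := fun r x => LinearMap.map_smulₛₗ ((A i).toMod.res h) r x }
    exact IsBaseChange.pi g (fun i => (hA i).1 p q h)
  · have h1 : ∀ i, Module.Finite (X.ring p) ((A i).carrier p) := fun i => ((hA i).2 p).1
    have h2 : ∀ i, Algebra.Etale (X.ring p) ((A i).carrier p) := fun i => ((hA i).2 p).2
    exact ⟨Module.Finite.pi, Algebra.FormallyEtale.instEtaleForallOfFinite _⟩

end Pi

/-- A fan of étale covers which is a product at every point is a product. -/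
theorem nonempty_isLimit_fan {ι : Type} {A : ι → FEt X} (P : FEt X) (π : ∀ i, P ⟶ A i)
    (h : ∀ p, Function.Bijective (fun (x : P.obj.carrier p) i => (π i).hom.app p x)) :
    Nonempty (IsLimit (Fan.mk P π)) := by
  have hex : ∀ (T : FEt X) (g : ∀ i, T ⟶ A i), ∃! l : T ⟶ P, ∀ i, l ≫ π i = g i := by
    intro T g
    let e : ∀ p, P.obj.carrier p ≃ₐ[X.ring p] (∀ i, (A i).obj.carrier p) := fun p =>
      AlgEquiv.ofBijective (AlgHom.pi fun i => (π i).hom.app p) (h p)
    have he : ∀ p (x : P.obj.carrier p) i, e p x i = (π i).hom.app p x := fun _ _ _ => rfl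
    let l : T.obj ⟶ P.obj :=
      { app := fun p => (e p).symm.toAlgHom.comp (AlgHom.pi fun i => (g i).hom.app p)
        compat := fun {p q} hpq b => by
          apply (e q).injective
          funext i
          rw [he, ← (π i).hom.compat, ← he]
          change ((A i).obj.res hpq (e p ((e p).symm _) i)) = e q ((e q).symm _) i
          rw [AlgEquiv.apply_symm_apply, AlgEquiv.apply_symm_apply]
          exact (g i).hom.compat hpq b }
    refine ⟨ObjectProperty.homMk l, fun i => ?_, fun l' hl' => ?_⟩
    · apply ObjectProperty.hom_ext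
      apply Alg.hom_ext
      intro p
      ext b
      change (π i).hom.app p ((e p).symm (fun i => (g i).hom.app p b)) = (g i).hom.app p b
      rw [← he, AlgEquiv.apply_symm_apply]
    · apply ObjectProperty.hom_ext
      apply Alg.hom_ext
      intro p
      ext b
      change l'.hom.app p b = (e p).symm (fun i => (g i).hom.app p b)
      rw [AlgEquiv.eq_symm_apply]
      funext i
      rw [he, ← hl' i]
      rfl
  choose l hl hu using fun (s : Fan A) => hex s.pt s.proj
  exact ⟨Fan.IsLimit.mk (Fan.mk P π) l (fun s i => hl s i) (fun s m hm => hu s m hm)⟩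

instance hasFiniteProducts : HasFiniteProducts (FEt X) where
  out n := by
    have : ∀ A : Fin n → FEt X, HasProduct A := by
      intro A
      let P : FEt X := ⟨piAlg fun i => (A i).obj, piAlg_isEtCover _ fun i => (A i).property⟩
      let π : ∀ i, P ⟶ A i := fun i => ObjectProperty.homMk (piProj (fun i => (A i).obj) i)
      obtain ⟨h⟩ := nonempty_isLimit_fan P π (fun p => ⟨fun x y hxy => hxy, fun x => ⟨x, rfl⟩⟩)
      exact ⟨⟨⟨_, h⟩⟩⟩
    exact { has_limit := fun F => hasLimit_of_iso Discrete.natIsoFunctor.symm }

section Equalizer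

variable {A B : Alg X} (f g : A ⟶ B)

/-- equalizer of two maps of algebras -/
def eqAlg : Alg X where
  carrier p := AlgHom.equalizer (f.app p) (g.app p)
  res {p q} h :=
    { toFun := fun x => ⟨A.res h x.1, by
        have hx : f.app p x.1 = g.app p x.1 := x.2
        change f.app q (A.res h x.1) = g.app q (A.res h x.1)
        rw [← f.compat, ← g.compat, hx]⟩
      map_one' := Subtype.ext (map_one (A.res h))
      map_mul' := fun x y => Subtype.ext (map_mul (A.res h) x.1 y.1)
      map_zero' := Subtype.ext (map_zero (A.res h))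
      map_add' := fun x y => Subtype.ext (map_add (A.res h) x.1 y.1) }
  res_algebraMap h a := Subtype.ext (A.res_algebraMap h a)
  res_self p b := Subtype.ext (A.res_self p b.1)
  res_comp h h' b := Subtype.ext (A.res_comp h h' b.1)

/-- inclusion of the equalizer -/
def eqIncl : eqAlg f g ⟶ A where
  app p := (AlgHom.equalizer (f.app p) (g.app p)).val
  compat _ _ := rfl

theorem eqAlg_isEtCover (hA : A.IsEtCover) (hB : B.IsEtCover) : (eqAlg f g).IsEtCover := by
  refine ⟨fun p q h => ?_, fun p => ?_⟩
  · letI := ai (X := X) h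
    have h1 := (hA.2 p).1
    have h2 := (hA.2 p).2
    have h3 := (hB.2 p).1
    have h4 := (hB.2 p).2
    obtain ⟨eA, heA⟩ := exists_bcAlgEquiv hA.1 h
    obtain ⟨eB, heB⟩ := exists_bcAlgEquiv hB.1 h
    have hnat : ∀ (k : A ⟶ B) (t : X.ring q ⊗[X.ring p] A.carrier p),
        eB (Algebra.TensorProduct.map (AlgHom.id (X.ring q) (X.ring q)) (k.app p) t) =
          k.app q (eA t) := by
      intro k t
      induction t using TensorProduct.induction_on with
      | zero => simp
      | tmul s a =>
        rw [Algebra.TensorProduct.map_tmul, heB, heA, map_smul, ← k.compat]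
        rfl
      | add x y hx hy => rw [map_add, map_add, hx, hy, map_add, map_add]
    have hT := Groth.Agent.Pi1B.FEtEqualizer.tensorEqualizer_bijective (f.app p) (g.app p) (X.ring q)
    -- the comparison of equalizers
    let T := (f.app p).tensorEqualizer (X.ring p) (X.ring q) (g.app p)
    have hcoe : ∀ x, ((T x : _) : X.ring q ⊗[X.ring p] A.carrier p) =
      Algebra.TensorProduct.map (AlgHom.id (X.ring p) (X.ring q)) (AlgHom.equalizer (f.app p) (g.app p)).val x :=
      fun x => AlgHom.coe_tensorEqualizer _ _ _ _ _
    have hmem : ∀ t : X.ring q ⊗[X.ring p] A.carrier p,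
        Algebra.TensorProduct.map (AlgHom.id (X.ring p) (X.ring q)) (f.app p) t =
          Algebra.TensorProduct.map (AlgHom.id (X.ring p) (X.ring q)) (g.app p) t ↔
        f.app q (eA t) = g.app q (eA t) := by
      intro t
      rw [← hnat f, ← hnat g]
      exact (eB.injective.eq_iff).symm
    let F : X.ring q ⊗[X.ring p] (AlgHom.equalizer (f.app p) (g.app p)) →+
        (eqAlg f g).carrier q :=
      AddMonoidHom.mk' (fun t => ⟨eA (T t).1, (hmem _).1 (T t).2⟩) (fun x y => by
        apply Subtype.ext
        change eA (T (x + y)).1 = eA (T x).1 + eA (T y).1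
        rw [map_add, ← map_add eA]
        rfl)
    refine isBCAlong_of_addMonoidHom (X.res h) ((eqAlg f g).toMod.res h) F ?_ ⟨?_, ?_⟩
    · intro s m
      apply Subtype.ext
      change eA (T (s ⊗ₜ m)).1 = s • A.res h m.1
      rw [hcoe, Algebra.TensorProduct.map_tmul, heA]
      rfl
    · intro x y hxy
      apply hT.1
      apply Subtype.ext
      exact eA.injective (congrArg Subtype.val hxy)
    · intro y
      have hy : f.app q (eA (eA.symm y.1)) = g.app q (eA (eA.symm y.1)) := by
        rw [AlgEquiv.apply_symm_apply]
        exact y.2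
      obtain ⟨t, ht⟩ := hT.2 ⟨eA.symm y.1, (hmem _).2 hy⟩
      refine ⟨t, ?_⟩
      apply Subtype.ext
      change eA (T t).1 = y.1
      have : (T t).1 = eA.symm y.1 := congrArg Subtype.val ht
      rw [this, AlgEquiv.apply_symm_apply]
  · have h1 := (hA.2 p).1
    have h2 := (hA.2 p).2
    have h3 := (hB.2 p).1
    have h4 := (hB.2 p).2
    exact ⟨Groth.Agent.Pi1B.FEtEqualizer.finite_equalizer (f.app p) (g.app p),
      Groth.Agent.Pi1B.FEtEqualizer.etale_equalizer (f.app p) (g.app p)⟩

end Equalizer

/-- A fork of étale covers which is an equalizer at every point is an equalizer. -/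
theorem nonempty_isLimit_fork {A B E : FEt X} {f g : A ⟶ B} (i : E ⟶ A) (w : i ≫ f = i ≫ g)
    (h1 : ∀ p, Function.Injective (i.hom.app p))
    (h2 : ∀ p (x : A.obj.carrier p), f.hom.app p x = g.hom.app p x → ∃ y, i.hom.app p y = x) :
    Nonempty (IsLimit (Fork.ofι i w)) := by
  have hex : ∀ (T : FEt X) (k : T ⟶ A), k ≫ f = k ≫ g → ∃! l : T ⟶ E, l ≫ i = k := by
    intro T k hk
    have hk' : ∀ p (x : T.obj.carrier p), f.hom.app p (k.hom.app p x) = g.hom.app p (k.hom.app p x) := by
      intro p x
      exact AlgHom.congr_fun (congrArg (fun t : T ⟶ B => t.hom.app p) hk) x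
    choose l hl using fun p (x : T.obj.carrier p) => h2 p (k.hom.app p x) (hk' p x)
    let l' : T.obj ⟶ E.obj :=
      { app := fun p =>
          { toFun := l p
            map_one' := h1 p (by rw [hl, map_one, map_one])
            map_mul' := fun x y => h1 p (by rw [hl, map_mul, map_mul, hl, hl])
            map_zero' := h1 p (by rw [hl, map_zero, map_zero])
            map_add' := fun x y => h1 p (by rw [hl, map_add, map_add, hl, hl])
            commutes' := fun r => h1 p (by rw [hl, AlgHom.commutes, AlgHom.commutes]) }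
        compat := fun {p q} hpq b => h1 q (by
          change i.hom.app q (E.obj.res hpq (l p b)) = i.hom.app q (l q (T.obj.res hpq b))
          rw [hl, ← i.hom.compat, hl, k.hom.compat]) }
    refine ⟨ObjectProperty.homMk l', ?_, fun m hm => ?_⟩
    · apply ObjectProperty.hom_ext
      apply Alg.hom_ext
      intro p
      ext b
      exact hl p b
    · apply ObjectProperty.hom_ext
      apply Alg.hom_ext
      intro p
      ext b
      apply h1 p
      change i.hom.app p (m.hom.app p b) = i.hom.app p (l p b)
      rw [hl, ← hm]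
      rfl
  choose l hl hu using fun (s : Fork f g) => hex s.pt s.ι s.condition
  exact ⟨Fork.IsLimit.mk (Fork.ofι i w) l (fun s => hl s) (fun s m hm => hu s m hm)⟩

theorem hasLimit_parallelPair {A B : FEt X} (f g : A ⟶ B) : HasLimit (parallelPair f g) := by
  let E : FEt X := ⟨eqAlg f.hom g.hom, eqAlg_isEtCover f.hom g.hom A.property B.property⟩
  let i : E ⟶ A := ObjectProperty.homMk (eqIncl f.hom g.hom)
  have w : i ≫ f = i ≫ g := by
    apply ObjectProperty.hom_ext
    apply Alg.hom_ext
    intro p
    ext b
    exact b.2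
  obtain ⟨h⟩ := nonempty_isLimit_fork i w (fun p => Subtype.val_injective)
    (fun p x hx => ⟨⟨x, hx⟩, rfl⟩)
  exact ⟨⟨⟨_, h⟩⟩⟩

instance hasEqualizers : HasEqualizers (FEt X) :=
  haveI := @hasLimit_parallelPair X
  hasEqualizers_of_hasLimit_parallelPair (C := FEt X)

instance hasFiniteLimits : HasFiniteLimits (FEt X) :=
  hasFiniteLimits_of_hasEqualizers_and_finite_products

theorem hasLimitsOfShape_singleObj (G : Type*) [Group G] [Finite G] :
    HasLimitsOfShape (SingleObj G) (FEt X) := by
  obtain ⟨G', hg, hf, ⟨e⟩⟩ := Finite.exists_type_univ_nonempty_mulEquiv.{_, 0} G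
  have : Fintype G' := Fintype.ofFinite G'
  have : FinCategory (SingleObj G') := { }
  exact Limits.hasLimitsOfShape_of_equivalence e.toSingleObjEquiv.symm

end K868.SchFin
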