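import Mathlib.RingTheory.Flat.Rank
import Mathlib.RingTheory.Smooth.Flat
import Mathlib.RingTheory.Etale.Basic
import Mathlib.RingTheory.RingHom.Flat
import Mathlib.RingTheory.Flat.FaithfullyFlat.Algebra
import Mathlib.RingTheory.LocalProperties.Basic
import Mathlib.RingTheory.LocalRing.Module
import Mathlib.RingTheory.Support

/-! # Kernels of finite étale algebra maps are generated by idempotents -/

set_option autoImplicit false

universe u

open TensorProduct

namespace K868.Idem

/-- the kernel of a finite flat finitely presented algebra is generated by an idempotent -/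
theorem exists_idem_ker (A B : Type u) [CommRing A] [CommRing B] [Algebra A B] [Module.Finite A B]
    [Module.Flat A B] [Module.FinitePresentation A B] :
    ∃ e : A, IsIdempotentElem e ∧ ∀ a : A, algebraMap A B a = 0 ↔ e * a = a := by
  have hlc := Module.isLocallyConstant_rankAtStalk (R := A) (M := B)
  have hcl : IsClopen {P : PrimeSpectrum A | Module.rankAtStalk B P = 0} :=
    hlc.isClopen_fiber 0
  obtain ⟨e, he, hes⟩ := PrimeSpectrum.exists_idempotent_basicOpen_eq_of_isClopen hcl
  refine ⟨e, he, ?_⟩
  have hmem : ∀ P : PrimeSpectrum A, e ∉ P.asIdeal ↔ Module.rankAtStalk B P = 0 := by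
    intro P
    have : P ∈ {P : PrimeSpectrum A | Module.rankAtStalk B P = 0} ↔
      P ∈ (PrimeSpectrum.basicOpen e : Set (PrimeSpectrum A)) := by rw [hes]
    exact this.symm
  have h0 : algebraMap A B e = 0 := by
    have hid : IsIdempotentElem (algebraMap A B e) := he.map _
    have hnil : IsNilpotent (algebraMap A B e) := by
      rw [nilpotent_iff_mem_prime]
      intro Q hQ
      by_contra hne
      have h1 : e ∉ (PrimeSpectrum.comap (algebraMap A B) ⟨Q, hQ⟩).asIdeal := hne
      rw [hmem] at h1
      have h2 := (PrimeSpectrum.rankAtStalk_pos_iff_mem_range_comap (R := A) (S := B)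
        (PrimeSpectrum.comap (algebraMap A B) ⟨Q, hQ⟩)).2 ⟨_, rfl⟩
      omega
    obtain ⟨n, hn⟩ := hnil
    rcases Nat.eq_zero_or_pos n with rfl | hpos
    · rw [pow_zero] at hn
      rw [← mul_one (algebraMap A B e), hn, mul_zero]
    · rwa [hid.pow_eq hpos.ne'] at hn
  intro a
  constructor
  · intro ha
    have key : (1 - e) * a = 0 := by
      apply eq_zero_of_localization
      intro J hJ
      by_cases hJe : e ∈ J
      · -- J is in the image
        have h1 : ¬ (Module.rankAtStalk B (⟨J, hJ.isPrime⟩ : PrimeSpectrum A) = 0) := fun h =>
          ((hmem ⟨J, hJ.isPrime⟩).2 h) hJe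
        have h2 := (PrimeSpectrum.rankAtStalk_pos_iff_mem_range_comap (R := A) (S := B)
          (⟨J, hJ.isPrime⟩ : PrimeSpectrum A)).1 (Nat.pos_of_ne_zero h1)
        obtain ⟨Q, hQ⟩ := h2
        have hJQ : J = Q.asIdeal.comap (algebraMap A B) := (congrArg PrimeSpectrum.asIdeal hQ).symm
        have hfl := RingHom.Flat.localRingHom ((RingHom.flat_algebraMap_iff (R := A) (S := B)).2 inferInstance)
          Q.asIdeal J hJQ
        let _ : Algebra (Localization.AtPrime J) (Localization.AtPrime Q.asIdeal) :=
          (Localization.localRingHom J Q.asIdeal (algebraMap A B) hJQ).toAlgebra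
        have hl : IsLocalHom (algebraMap (Localization.AtPrime J) (Localization.AtPrime Q.asIdeal)) :=
          Localization.isLocalHom_localRingHom J Q.asIdeal (algebraMap A B) hJQ
        have : Module.Flat (Localization.AtPrime J) (Localization.AtPrime Q.asIdeal) :=
          (RingHom.flat_algebraMap_iff).1 hfl
        have : Module.FaithfullyFlat (Localization.AtPrime J) (Localization.AtPrime Q.asIdeal) :=
          Module.FaithfullyFlat.of_flat_of_isLocalHom
        apply FaithfulSMul.algebraMap_injective (Localization.AtPrime J) (Localization.AtPrime Q.asIdeal)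
        rw [map_zero, map_mul, map_mul]
        have : algebraMap (Localization.AtPrime J) (Localization.AtPrime Q.asIdeal)
            (algebraMap A (Localization.AtPrime J) a) = 0 := by
          change Localization.localRingHom J Q.asIdeal (algebraMap A B) hJQ (algebraMap A _ a) = 0
          rw [Localization.localRingHom_to_map, ha, map_zero]
        rw [this, mul_zero]
      · -- e is a unit at J
        have hu : IsUnit (algebraMap A (Localization.AtPrime J) e) :=
          IsLocalization.map_units (Localization.AtPrime J) (⟨e, hJe⟩ : J.primeCompl)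
        have h1 : algebraMap A (Localization.AtPrime J) e *
            algebraMap A (Localization.AtPrime J) ((1 - e) * a) = 0 := by
          rw [← map_mul, ← mul_assoc, mul_sub, mul_one, he.eq, sub_self, zero_mul, map_zero]
        exact (hu.mul_right_eq_zero).1 h1
    linear_combination -key
  · intro ha
    rw [← ha, map_mul, h0, zero_mul]

lemma eq_of_idem {A : Type u} [CommRing A] {e e' : A}
    (h : e * e' = e') (h' : e' * e = e) : e = e' := by
  rw [← h', mul_comm, h]

/-- bijectivity of an injective map of finite étale algebras of equal rank -/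
theorem bijective_of_injective_of_rankAtStalk_eq {R A B : Type u} [CommRing R] [CommRing A] [CommRing B]
    [Algebra R A] [Algebra R B] [Algebra A B] [IsScalarTower R A B] [Module.Finite R A] [Module.Flat R A]
    [Module.Finite R B] [Module.Flat R B] [Module.Finite A B] [Module.Flat A B]
    (hinj : Function.Injective (algebraMap A B))
    (hrank : ∀ P : PrimeSpectrum R, Module.rankAtStalk A P = Module.rankAtStalk B P) :
    Function.Bijective (algebraMap A B) := by
  refine ⟨hinj, ?_⟩
  have hff : Module.FaithfullyFlat A B := Module.FaithfullyFlat.of_comap_surjective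
    ((PrimeSpectrum.comap_surjective_iff_injective_of_finite).2 hinj)
  let f : A →ₗ[R] B := (IsScalarTower.toAlgHom R A B).toLinearMap
  have hsub : Subsingleton (B ⧸ LinearMap.range f) := by
    rw [← Module.support_eq_empty_iff (R := R)]
    rw [Set.eq_empty_iff_forall_notMem]
    intro P hP
    rw [Module.mem_support_iff_nontrivial_residueField_tensorProduct] at hP
    -- the map on fibres is bijective
    let κ := P.asIdeal.ResidueField
    have hi : Function.Injective (f.lTensor κ) := by
      have h1 := Module.FaithfullyFlat.tensorProduct_mk_injective (A := A) (B := B) (A ⊗[R] κ)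
      let e : B ⊗[A] (A ⊗[R] κ) ≃ₗ[B] B ⊗[R] κ :=
        TensorProduct.AlgebraTensorModule.cancelBaseChange R A B B κ
      have h2 : ∀ x : κ ⊗[R] A, (TensorProduct.comm R κ B) (f.lTensor κ x) =
          e ((1 : B) ⊗ₜ[A] (TensorProduct.comm R κ A x)) := by
        intro x
        induction x using TensorProduct.induction_on with
        | zero => simp
        | tmul k a =>
          rw [LinearMap.lTensor_tmul, TensorProduct.comm_tmul, TensorProduct.comm_tmul,
            TensorProduct.AlgebraTensorModule.cancelBaseChange_tmul]
          congr 1
          change algebraMap A B a = a • (1 : B)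
          rw [Algebra.smul_def, mul_one]
        | add x y hx hy => rw [map_add, map_add, hx, hy, map_add, TensorProduct.tmul_add, map_add]
      intro x y hxy
      apply (TensorProduct.comm R κ A).injective
      apply h1
      apply e.injective
      change e ((1 : B) ⊗ₜ[A] _) = e ((1 : B) ⊗ₜ[A] _)
      rw [← h2, ← h2, hxy]
    have hdim : Module.finrank κ (κ ⊗[R] A) = Module.finrank κ (κ ⊗[R] B) := by
      have := hrank P
      rw [Module.rankAtStalk_eq, Module.rankAtStalk_eq] at this
      exact this
    let fκ : κ ⊗[R] A →ₗ[κ] κ ⊗[R] B := f.baseChange κ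
    have hiκ : Function.Injective fκ := hi
    have hsκ : Function.Surjective fκ :=
      (LinearMap.injective_iff_surjective_of_finrank_eq_finrank hdim).1 hiκ
    have hs : Function.Surjective (f.lTensor κ) := hsκ
    have hq : Function.Surjective ((LinearMap.range f).mkQ.lTensor κ) :=
      LinearMap.lTensor_surjective κ (Submodule.mkQ_surjective _)
    have hz : ∀ x, (LinearMap.range f).mkQ.lTensor κ x = 0 := by
      intro x
      obtain ⟨y, rfl⟩ := hs x
      rw [← LinearMap.comp_apply, ← LinearMap.lTensor_comp]
      have : (LinearMap.range f).mkQ ∘ₗ f = 0 := by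
        ext a
        change Submodule.Quotient.mk (f a) = 0
        rw [Submodule.Quotient.mk_eq_zero]
        exact ⟨a, rfl⟩
      rw [this, LinearMap.lTensor_zero, LinearMap.zero_apply]
    obtain ⟨x, y, hxy⟩ := hP
    obtain ⟨x', rfl⟩ := hq x
    obtain ⟨y', rfl⟩ := hq y
    exact hxy (by rw [hz, hz])
  intro b
  have : (Submodule.Quotient.mk b : B ⧸ LinearMap.range f) = 0 := Subsingleton.elim _ _
  rw [Submodule.Quotient.mk_eq_zero] at this
  exact this

end K868.Idem
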