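import Groth.Prelude.Def_SchFin2
import Groth.Agent.SchFin.K868.AlgBasic
import Groth.Agent.SchFin.K868.FEtLimits
import Groth.Agent.SchFin.K868.FEtColimits
import Groth.Agent.SchFin.K868.IdemKer
import Mathlib.RingTheory.Localization.Away.Lemmas

/-! # Kernels, images and direct factors of étale covers -/

set_option autoImplicit false

universe u

open TensorProduct SchFin CategoryTheory Limits

namespace K868.SchFin

variable {X : RSpace.{u}}

/-- retracts of base changes -/
lemma isBCAlong_retract {R S : Type u} [CommRing R] [CommRing S] (g : R →+* S)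
    {M N M' N' : Type u} [AddCommGroup M] [AddCommGroup N] [Module R M] [Module S N]
    [AddCommGroup M'] [AddCommGroup N'] [Module R M'] [Module S N']
    {f : M →ₛₗ[g] N} (hf : IsBCAlong g f) (f' : M' →ₛₗ[g] N') (i : M' →ₗ[R] M) (r : M →ₗ[R] M')
    (hri : ∀ x, r (i x) = x) (j : N' →ₗ[S] N) (s : N →ₗ[S] N') (hsj : ∀ x, s (j x) = x)
    (h1 : ∀ x, f (i x) = j (f' x)) (h2 : ∀ x, f' (r x) = s (f x)) : IsBCAlong g f' := by
  letI : Algebra R S := g.toAlgebra
  let e := bcEquiv g hf
  have he : ∀ c m, e (c ⊗ₜ m) = c • f m := fun c m => bcEquiv_tmul g hf c m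
  let F : S ⊗[R] M' →+ N' := (s.toAddMonoidHom.comp e.toAddEquiv.toAddMonoidHom).comp
    (i.lTensor S).toAddMonoidHom
  have hF : ∀ c m, F (c ⊗ₜ m) = c • f' m := by
    intro c m
    change s (e (i.lTensor S (c ⊗ₜ m))) = _
    rw [LinearMap.lTensor_tmul, he, map_smul, h1, hsj]
  have hFr : ∀ t : S ⊗[R] M, F (r.lTensor S t) = s (e t) := by
    intro t
    induction t using TensorProduct.induction_on with
    | zero => simp
    | tmul c m => rw [LinearMap.lTensor_tmul, hF, he, map_smul, h2]
    | add x y hx hy => rw [map_add, map_add, hx, hy, map_add, map_add]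
  have hj : ∀ t : S ⊗[R] M', j (F t) = e (i.lTensor S t) := by
    intro t
    induction t using TensorProduct.induction_on with
    | zero => simp
    | tmul c m => rw [LinearMap.lTensor_tmul, hF, he, map_smul, h1]
    | add x y hx hy => rw [map_add, map_add, hx, hy, map_add, map_add]
  refine isBCAlong_of_addMonoidHom g f' F hF ⟨?_, ?_⟩
  · intro x y hxy
    have h3 : e (i.lTensor S x) = e (i.lTensor S y) := by rw [← hj, ← hj, hxy]
    have h4 := e.injective h3
    have h5 : ∀ t : S ⊗[R] M', r.lTensor S (i.lTensor S t) = t := by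
      intro t
      rw [← LinearMap.comp_apply, ← LinearMap.lTensor_comp,
        show r ∘ₗ i = LinearMap.id from LinearMap.ext hri, LinearMap.lTensor_id, LinearMap.id_apply]
    rw [← h5 x, ← h5 y, h4]
  · intro y
    refine ⟨r.lTensor S (e.symm (j y)), ?_⟩
    rw [hFr, LinearEquiv.apply_symm_apply, hsj]

section Quot

variable (A : Alg X) (e : ∀ p, A.carrier p)

/-- the quotient of an algebra by a compatible family of elements -/
def quotAlg (hres : ∀ {p q : X.pt} (h : p ≤ q), A.res h (e p) = e q) : Alg X where
  carrier p := A.carrier p ⧸ Ideal.span {e p}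
  res {p q} h := Ideal.quotientMap _ (A.res h) (by
    rw [Ideal.span_singleton_le_iff_mem, Ideal.mem_comap, hres h]
    exact Ideal.mem_span_singleton_self _)
  res_algebraMap {p q} h a := by
    change Ideal.Quotient.mk _ (A.res h (algebraMap _ _ a)) = Ideal.Quotient.mk _ (algebraMap _ _ (X.res h a))
    rw [A.res_algebraMap]
  res_self p b := by
    obtain ⟨b, rfl⟩ := Ideal.Quotient.mk_surjective b
    change Ideal.Quotient.mk _ (A.res (le_refl p) b) = _
    rw [A.res_self]
  res_comp {p q s} h h' b := by
    obtain ⟨b, rfl⟩ := Ideal.Quotient.mk_surjective b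
    change Ideal.Quotient.mk _ (A.res h' (A.res h b)) = Ideal.Quotient.mk _ (A.res (h.trans h') b)
    rw [A.res_comp]

variable {A e} (hres : ∀ {p q : X.pt} (h : p ≤ q), A.res h (e p) = e q)

/-- the projection to the quotient -/
def quotProj : A ⟶ quotAlg A e hres where
  app p := Ideal.Quotient.mkₐ (X.ring p) (Ideal.span {e p})
  compat _ _ := rfl

theorem quotAlg_isEtCover (hA : A.IsEtCover) (he : ∀ p, IsIdempotentElem (e p)) :
    (quotAlg A e hres).IsEtCover := by
  refine ⟨fun p q h => ?_, fun p => ?_⟩
  · -- retract of `A`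
    have lift : ∀ p, ∃ i : (A.carrier p ⧸ Ideal.span {e p}) →ₗ[X.ring p] A.carrier p,
        ∀ a, i (Ideal.Quotient.mk _ a) = (1 - e p) * a := by
      intro p
      refine ⟨(Submodule.liftQ ((Ideal.span {e p}).restrictScalars (X.ring p))
        (LinearMap.mulLeft (X.ring p) (1 - e p)) ?_), ?_⟩
      · intro a ha
        rw [LinearMap.mem_ker, LinearMap.mulLeft_apply]
        obtain ⟨b, rfl⟩ := Ideal.mem_span_singleton'.1 ha
        have := (he p).eq
        linear_combination (-b) * this
      · intro a
        rfl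
    obtain ⟨i, hi⟩ := lift p
    obtain ⟨j, hj⟩ := lift q
    refine isBCAlong_retract (X.res h) (hA.1 p q h) ((quotAlg A e hres).toMod.res h) i
      (Ideal.Quotient.mkₐ (X.ring p) (Ideal.span {e p})).toLinearMap ?_ j
      (Ideal.Quotient.mkₐ (X.ring q) (Ideal.span {e q})).toLinearMap ?_ ?_ ?_
    · intro x
      obtain ⟨a, rfl⟩ := Ideal.Quotient.mk_surjective x
      refine (congrArg (Ideal.Quotient.mk (Ideal.span {e p})) (hi a)).trans ?_
      rw [Ideal.Quotient.eq, Ideal.mem_span_singleton]
      exact ⟨-a, by ring⟩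
    · intro x
      obtain ⟨a, rfl⟩ := Ideal.Quotient.mk_surjective x
      refine (congrArg (Ideal.Quotient.mk (Ideal.span {e q})) (hj a)).trans ?_
      rw [Ideal.Quotient.eq, Ideal.mem_span_singleton]
      exact ⟨-a, by ring⟩
    · intro x
      obtain ⟨a, rfl⟩ := Ideal.Quotient.mk_surjective x
      refine (congrArg (A.res h) (hi a)).trans ?_
      refine Eq.trans ?_ (hj (A.res h a)).symm
      rw [map_mul, map_sub, map_one, hres h]
    · intro x
      rfl
  · have h1 := (hA.2 p).1
    have h2 := (hA.2 p).2
    refine ⟨(inferInstance : Module.Finite (X.ring p) (A.carrier p ⧸ Ideal.span {e p})), ?_⟩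
    have hloc : IsLocalization.Away (1 - e p) (A.carrier p ⧸ Ideal.span {e p}) := by
      have := IsLocalization.Away.quotient_of_isIdempotentElem (he p).one_sub
      rwa [sub_sub_cancel] at this
    have h3 : Algebra.Etale (A.carrier p) (A.carrier p ⧸ Ideal.span {e p}) :=
      Algebra.Etale.of_isLocalizationAway (1 - e p)
    exact Algebra.Etale.comp (X.ring p) (A.carrier p) (A.carrier p ⧸ Ideal.span {e p})

end Quot

section Kernel

variable {A B : Alg X} (f : A ⟶ B)

theorem exists_idem_ker_app (hA : A.IsEtCover) (hB : B.IsEtCover) (p : X.pt) :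
    ∃ e : A.carrier p, IsIdempotentElem e ∧ ∀ a, f.app p a = 0 ↔ e * a = a := by
  have h1 := (hA.2 p).1
  have h2 := (hA.2 p).2
  have h3 := (hB.2 p).1
  have h4 := (hB.2 p).2
  obtain ⟨k1, k2⟩ := finite_etale_of_algHom (f.app p)
  let _ : Algebra (A.carrier p) (B.carrier p) := (f.app p).toRingHom.toAlgebra
  have k3 : Module.Finite (A.carrier p) (B.carrier p) := k1
  have k4 : Algebra.Etale (A.carrier p) (B.carrier p) := k2
  have k5 : Module.FinitePresentation (A.carrier p) (B.carrier p) := .of_finite_of_finitePresentation ..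
  exact K868.Idem.exists_idem_ker (A.carrier p) (B.carrier p)

/-- The kernel of a morphism of étale covers is generated by a compatible family of idempotents. -/
theorem exists_idem_family (hX : X.IsFinSp) (hA : A.IsEtCover) (hB : B.IsEtCover) :
    ∃ e : ∀ p, A.carrier p, (∀ p, IsIdempotentElem (e p)) ∧
      (∀ {p q : X.pt} (h : p ≤ q), A.res h (e p) = e q) ∧
      ∀ p a, f.app p a = 0 ↔ e p * a = a := by
  choose e he hker using exists_idem_ker_app f hA hB
  refine ⟨e, he, ?_, hker⟩
  intro p q h
  letI := ai (X := X) h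
  have hflat : Module.Flat (X.ring p) (X.ring q) := hX.2 p q h
  obtain ⟨eA, heA⟩ := exists_bcAlgEquiv hA.1 h
  obtain ⟨eB, heB⟩ := exists_bcAlgEquiv hB.1 h
  apply K868.Idem.eq_of_idem
  · -- `res (e p) * e q = e q`
    let K : Submodule (X.ring p) (A.carrier p) := LinearMap.ker (f.app p).toLinearMap
    have hex : Function.Exact (K.subtype.lTensor (X.ring q)) ((f.app p).toLinearMap.lTensor (X.ring q)) :=
      Module.Flat.lTensor_exact (X.ring q) (LinearMap.exact_subtype_ker_map _)
    have h0 : f.app q (e q) = 0 := (hker q _).2 (he q).eq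
    have hnat : ∀ t : X.ring q ⊗[X.ring p] A.carrier p,
        eB ((f.app p).toLinearMap.lTensor (X.ring q) t) = f.app q (eA t) := by
      intro t
      induction t using TensorProduct.induction_on with
      | zero => simp
      | tmul s a =>
        rw [LinearMap.lTensor_tmul, heB, heA, map_smul, ← f.compat]
        rfl
      | add x y hx hy => rw [map_add, map_add, hx, hy, map_add, map_add]
    have h1 : (f.app p).toLinearMap.lTensor (X.ring q) (eA.symm (e q)) = 0 := by
      apply eB.injective
      rw [hnat, AlgEquiv.apply_symm_apply, h0, map_zero]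
    obtain ⟨s, hs⟩ := (hex _).1 h1
    have h2 : ∀ s : X.ring q ⊗[X.ring p] K, A.res h (e p) * eA (K.subtype.lTensor (X.ring q) s) =
        eA (K.subtype.lTensor (X.ring q) s) := by
      intro s
      induction s using TensorProduct.induction_on with
      | zero => simp
      | tmul c k =>
        rw [LinearMap.lTensor_tmul, heA, mul_smul_comm, ← map_mul]
        congr 2
        exact (hker p k.1).1 k.2
      | add x y hx hy => rw [map_add, map_add, mul_add, hx, hy]
    have h3 := h2 s
    rwa [hs, AlgEquiv.apply_symm_apply] at h3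
  · apply (hker q _).1
    rw [← f.compat, (hker p _).2 (he p).eq, map_zero]

end Kernel

/-- image factorization -/
theorem exists_factor (hX : X.IsFinSp) {A B : FEt X} (f : A ⟶ B) :
    ∃ (Q : FEt X) (g : A ⟶ Q) (h : Q ⟶ B), g ≫ h = f ∧ (∀ p : X.pt, Function.Surjective (g.hom.app p)) ∧
      ∀ p : X.pt, Function.Injective (h.hom.app p) := by
  obtain ⟨e, he, hres, hker⟩ := exists_idem_family f.hom hX A.property B.property
  let Q : FEt X := ⟨quotAlg A.obj e hres, quotAlg_isEtCover hres A.property he⟩
  have hle : ∀ p, ∀ a ∈ Ideal.span {e p}, f.hom.app p a = 0 := by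
    intro p a ha
    obtain ⟨b, rfl⟩ := Ideal.mem_span_singleton'.1 ha
    rw [map_mul, (hker p _).2 (he p).eq, mul_zero]
  let h' : quotAlg A.obj e hres ⟶ B.obj :=
    { app := fun p => Ideal.Quotient.liftₐ _ (f.hom.app p) (hle p)
      compat := fun {p q} hpq b => by
        obtain ⟨b, rfl⟩ := Ideal.Quotient.mk_surjective b
        exact f.hom.compat hpq b }
  refine ⟨Q, ObjectProperty.homMk (quotProj hres), ObjectProperty.homMk h', ?_, ?_, ?_⟩
  · rfl
  · intro p x
    obtain ⟨a, rfl⟩ := Ideal.Quotient.mk_surjective x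
    exact ⟨a, rfl⟩
  · intro p
    have hinj : ∀ x : A.obj.carrier p ⧸ Ideal.span {e p},
        Ideal.Quotient.liftₐ _ (f.hom.app p) (hle p) x = 0 → x = 0 := by
      intro x hx
      obtain ⟨a, rfl⟩ := Ideal.Quotient.mk_surjective x
      have h1 : f.hom.app p a = 0 := hx
      rw [Ideal.Quotient.eq_zero_iff_mem, Ideal.mem_span_singleton]
      exact ⟨a, ((hker p a).1 h1).symm⟩
    exact (injective_iff_map_eq_zero (Ideal.Quotient.liftₐ _ (f.hom.app p) (hle p))).2 hinj

/-- A binary fan of étale covers which is a product at every point is a product. -/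
theorem nonempty_isLimit_binaryFan {A B P : FEt X} (f : P ⟶ A) (g : P ⟶ B)
    (h : ∀ p, Function.Bijective (fun (x : P.obj.carrier p) => (f.hom.app p x, g.hom.app p x))) :
    Nonempty (IsLimit (BinaryFan.mk f g)) := by
  have hex : ∀ (T : FEt X) (a : T ⟶ A) (b : T ⟶ B), ∃! l : T ⟶ P, l ≫ f = a ∧ l ≫ g = b := by
    intro T a b
    let e : ∀ p, P.obj.carrier p ≃ₐ[X.ring p] (A.obj.carrier p × B.obj.carrier p) := fun p =>
      AlgEquiv.ofBijective ((f.hom.app p).prod (g.hom.app p)) (h p)
    have he1 : ∀ p (x : P.obj.carrier p), (e p x).1 = f.hom.app p x := fun _ _ => rfl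
    have he2 : ∀ p (x : P.obj.carrier p), (e p x).2 = g.hom.app p x := fun _ _ => rfl
    let l : T.obj ⟶ P.obj :=
      { app := fun p => (e p).symm.toAlgHom.comp ((a.hom.app p).prod (b.hom.app p))
        compat := fun {p q} hpq t => by
          apply (e q).injective
          apply Prod.ext
          · rw [he1, ← f.hom.compat, ← he1]
            change (A.obj.res hpq (e p ((e p).symm _)).1) = (e q ((e q).symm _)).1
            rw [AlgEquiv.apply_symm_apply, AlgEquiv.apply_symm_apply]
            exact a.hom.compat hpq t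
          · rw [he2, ← g.hom.compat, ← he2]
            change (B.obj.res hpq (e p ((e p).symm _)).2) = (e q ((e q).symm _)).2
            rw [AlgEquiv.apply_symm_apply, AlgEquiv.apply_symm_apply]
            exact b.hom.compat hpq t }
    refine ⟨ObjectProperty.homMk l, ⟨?_, ?_⟩, fun l' hl' => ?_⟩
    · apply ObjectProperty.hom_ext
      apply Alg.hom_ext
      intro p
      ext t
      change f.hom.app p ((e p).symm (a.hom.app p t, b.hom.app p t)) = a.hom.app p t
      rw [← he1, AlgEquiv.apply_symm_apply]
    · apply ObjectProperty.hom_ext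
      apply Alg.hom_ext
      intro p
      ext t
      change g.hom.app p ((e p).symm (a.hom.app p t, b.hom.app p t)) = b.hom.app p t
      rw [← he2, AlgEquiv.apply_symm_apply]
    · apply ObjectProperty.hom_ext
      apply Alg.hom_ext
      intro p
      ext t
      change l'.hom.app p t = (e p).symm (a.hom.app p t, b.hom.app p t)
      rw [AlgEquiv.eq_symm_apply]
      apply Prod.ext
      · rw [he1, ← hl'.1]
        rfl
      · rw [he2, ← hl'.2]
        rfl
  exact ⟨BinaryFan.IsLimit.mk _ (fun {T} a b => (hex T a b).choose)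
    (fun {T} a b => (hex T a b).choose_spec.1.1) (fun {T} a b => (hex T a b).choose_spec.1.2)
    (fun {T} a b m h1 h2 => (hex T a b).choose_spec.2 m ⟨h1, h2⟩)⟩

/-- a pointwise surjective morphism of étale covers is a direct factor -/
theorem exists_isLimit_binaryFan (hX : X.IsFinSp) {A B : FEt X} (f : A ⟶ B)
    (hf : ∀ p : X.pt, Function.Surjective (f.hom.app p)) :
    ∃ (D : FEt X) (π : A ⟶ D), Nonempty (IsLimit (BinaryFan.mk f π)) := by
  obtain ⟨e, he, hres, hker⟩ := exists_idem_family f.hom hX A.property B.property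
  have hres' : ∀ {p q : X.pt} (h : p ≤ q), A.obj.res h (1 - e p) = 1 - e q := by
    intro p q h
    rw [map_sub, map_one, hres h]
  let D : FEt X := ⟨quotAlg A.obj (fun p => 1 - e p) hres',
    quotAlg_isEtCover hres' A.property (fun p => (he p).one_sub)⟩
  refine ⟨D, ObjectProperty.homMk (quotProj hres'), ?_⟩
  apply nonempty_isLimit_binaryFan
  intro p
  have hD : ∀ a : A.obj.carrier p, (Ideal.Quotient.mk (Ideal.span {1 - e p}) a = 0) ↔ e p * a = 0 := by
    intro a
    rw [Ideal.Quotient.eq_zero_iff_mem, Ideal.mem_span_singleton]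
    constructor
    · rintro ⟨b, rfl⟩
      rw [← mul_assoc, mul_sub, mul_one, (he p).eq, sub_self, zero_mul]
    · intro h
      exact ⟨a, by linear_combination h⟩
  have hfe : f.hom.app p (e p) = 0 := (hker p _).2 (he p).eq
  constructor
  · intro x y hxy
    have h1 : f.hom.app p x = f.hom.app p y := congrArg Prod.fst hxy
    have h2 : Ideal.Quotient.mk (Ideal.span {1 - e p}) x = Ideal.Quotient.mk (Ideal.span {1 - e p}) y :=
      congrArg Prod.snd hxy
    rw [← sub_eq_zero, ← map_sub, hker] at h1
    rw [← sub_eq_zero, ← map_sub, hD] at h2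
    rw [← sub_eq_zero, ← h1, h2]
  · rintro ⟨b, d⟩
    obtain ⟨a, rfl⟩ := hf p b
    obtain ⟨a', rfl⟩ := Ideal.Quotient.mk_surjective d
    refine ⟨(1 - e p) * a + e p * a', ?_⟩
    apply Prod.ext
    · change f.hom.app p ((1 - e p) * a + e p * a') = f.hom.app p a
      rw [map_add, map_mul, map_mul, map_sub, map_one, hfe, sub_zero, one_mul, zero_mul, add_zero]
    · change Ideal.Quotient.mk (Ideal.span {1 - e p}) ((1 - e p) * a + e p * a') =
        Ideal.Quotient.mk (Ideal.span {1 - e p}) a'
      rw [← sub_eq_zero, ← map_sub, hD]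
      have := (he p).eq
      linear_combination (a' - a) * this

/-- monomorphisms of étale covers are injective at every point -/
theorem injective_of_mono {A B : FEt X} (f : A ⟶ B) [Mono f] (p : X.pt) :
    Function.Injective (f.hom.app p) := by
  let P : FEt X := ⟨piAlg fun _ : Bool => A.obj, piAlg_isEtCover _ fun _ => A.property⟩
  let pr (i : Bool) : P ⟶ A := ObjectProperty.homMk (piProj (fun _ : Bool => A.obj) i)
  let T : FEt X := ⟨eqAlg (pr true ≫ f).hom (pr false ≫ f).hom,
    eqAlg_isEtCover _ _ P.property B.property⟩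
  let i : T ⟶ P := ObjectProperty.homMk (eqIncl (pr true ≫ f).hom (pr false ≫ f).hom)
  have hmono : i ≫ pr true = i ≫ pr false := by
    rw [← cancel_mono f]
    apply ObjectProperty.hom_ext
    apply Alg.hom_ext
    intro p
    ext t
    exact t.2
  intro x y hxy
  let t : T.obj.carrier p := ⟨fun b => if b then x else y, hxy⟩
  exact AlgHom.congr_fun (congrArg (fun k : T ⟶ A => k.hom.app p) hmono) t

/-- injective maps of étale covers of equal rank are isomorphisms -/
theorem isIso_of_injective_of_rank {A B : FEt X} (f : A ⟶ B)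
    (hf : ∀ p : X.pt, Function.Injective (f.hom.app p))
    (hdeg : ∀ (p : X.pt) (P : PrimeSpectrum (X.ring p)),
      Module.rankAtStalk (A.obj.carrier p) P = Module.rankAtStalk (B.obj.carrier p) P) :
    IsIso f := by
  apply isIso_of_bijective
  intro p
  have h1 := (A.property.2 p).1
  have h2 := (A.property.2 p).2
  have h3 := (B.property.2 p).1
  have h4 := (B.property.2 p).2
  obtain ⟨k1, k2⟩ := finite_etale_of_algHom (f.hom.app p)
  let _ : Algebra (A.obj.carrier p) (B.obj.carrier p) := (f.hom.app p).toRingHom.toAlgebra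
  have : IsScalarTower (X.ring p) (A.obj.carrier p) (B.obj.carrier p) :=
    IsScalarTower.of_algebraMap_eq fun r => ((f.hom.app p).commutes r).symm
  have k3 : Module.Finite (A.obj.carrier p) (B.obj.carrier p) := k1
  have k4 : Algebra.Etale (A.obj.carrier p) (B.obj.carrier p) := k2
  exact K868.Idem.bijective_of_injective_of_rankAtStalk_eq (R := X.ring p) (A := A.obj.carrier p)
    (B := B.obj.carrier p) (hf p) (hdeg p)

end K868.SchFin
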