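import Groth.Prelude.Def_SchFin2
import Groth.Agent.SchFin.K868.Basic
import Groth.Agent.SchFin.K868.GeomPt
import Groth.Agent.SchFin.K868.Pairs

/-! # Geometric points: existence over a maximal pair -/

set_option autoImplicit false

universe u

open TensorProduct SchFin

namespace K868.SchFin

/-- `IsBCAlong` over an identity -/
lemma isBCAlong_id_of_bijective {R : Type u} [CommRing R] {M N : Type u} [AddCommGroup M]
    [AddCommGroup N] [Module R M] [Module R N] (f : M →ₛₗ[RingHom.id R] N)
    (hf : Function.Bijective f) : IsBCAlong (RingHom.id R) f :=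
  isBCAlong_of_equiv (RingHom.id R) f
    ((TensorProduct.lid R M).trans (LinearEquiv.ofBijective f hf)) (fun m => by
      change f (TensorProduct.lid R M (1 ⊗ₜ m)) = f m
      rw [TensorProduct.lid_tmul, one_smul])

/-- `IsBCAlong` when everything is zero -/
lemma isBCAlong_of_subsingleton {R S : Type u} [CommRing R] [CommRing S] (g : R →+* S)
    {M N : Type u} [AddCommGroup M] [AddCommGroup N] [Module R M] [Module S N] (f : M →ₛₗ[g] N)
    (h1 : letI : Algebra R S := g.toAlgebra; Subsingleton (S ⊗[R] M)) (h2 : Subsingleton N) :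
    IsBCAlong g f := by
  let _ : Algebra R S := g.toAlgebra
  exact isBCAlong_of_equiv g f
    { toFun := fun _ => 0
      invFun := fun _ => 0
      map_add' := fun _ _ => (add_zero _).symm
      map_smul' := fun _ _ => (smul_zero _).symm
      left_inv := fun _ => Subsingleton.elim _ _
      right_inv := fun _ => Subsingleton.elim _ _ } (fun _ => Subsingleton.elim _ _)

lemma subsingleton_tensor_right {R S M : Type u} [CommRing R] [CommRing S] [Algebra R S] [AddCommGroup M]
    [Module R M] (h : Subsingleton M) : Subsingleton (S ⊗[R] M) := by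
  refine ⟨fun a b => ?_⟩
  have key : ∀ t : S ⊗[R] M, t = 0 := by
    intro t
    induction t using TensorProduct.induction_on with
    | zero => rfl
    | tmul x y => rw [Subsingleton.elim y 0, TensorProduct.tmul_zero]
    | add x y hx hy => rw [hx, hy, add_zero]
  rw [key a, key b]

/-- restriction in cohomology to the same set is bijective -/
lemma resH_bijective_self {X : RSpace.{u}} {U : Set X.pt} {R : Type u} [CommRing R] (φ : Coef X U R)
    (M : OMod X) (s : Coef.Sub φ φ) (n : ℕ) : Function.Bijective (resH M s n) := by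
  have h : ∀ c : cocycles φ M n, resH M s n (H.mk φ M n c) = H.mk φ M n c := fun c => rfl
  constructor
  · intro a b hab
    obtain ⟨a, rfl⟩ := Submodule.mkQ_surjective _ a
    obtain ⟨b, rfl⟩ := Submodule.mkQ_surjective _ b
    exact (h a).symm.trans (hab.trans (h b))
  · intro a
    obtain ⟨a, rfl⟩ := Submodule.mkQ_surjective _ a
    exact ⟨_, h a⟩

lemma subsingleton_H_of_subsingleton {Y : RSpace.{u}} {U : Set Y.pt} {R : Type u} [CommRing R]
    (φ : Coef Y U R) (M : OMod Y) (hU : Subsingleton Y.pt) (n : ℕ) : Subsingleton (H φ M (n + 1)) := by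
  have : IsEmpty (Chain U (n + 1)) := ⟨fun σ => by
    have h1 : σ 0 < σ 1 := σ.strictMono (by simp)
    have h2 : σ 0 = σ 1 := Subtype.ext (Subsingleton.elim _ _)
    exact absurd h1 (by rw [h2]; exact lt_irrefl _)⟩
  have h1 : Subsingleton (Cochain φ M (n + 1)) := ⟨fun a b => funext fun σ => (this.false σ).elim⟩
  have h2 : Subsingleton (cocycles φ M (n + 1)) := inferInstance
  exact Function.Surjective.subsingleton (f := H.mk φ M (n + 1)) (Submodule.mkQ_surjective _)

variable {X : RSpace.{u}} {Ω : Type u} [Field Ω]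

/-- the ring map to the field from a point below the base -/
def toF (f : SchFin.Hom (RSpace.point Ω) X) {y : X.pt} (hy : y ≤ f.fn PUnit.unit) : X.ring y →+* Ω :=
  (f.app PUnit.unit).comp (X.res hy)

/-- the module structure on the field from a point below the base -/
abbrev modF (f : SchFin.Hom (RSpace.point Ω) X) {y : X.pt} (hy : y ≤ f.fn PUnit.unit) :
    Module (X.ring y) Ω := Module.compHom Ω (toF f hy)

/-- the field `Ω` as degree-zero cohomology of the one-point space over a set containing the point -/
noncomputable def omegaEquiv {f : SchFin.Hom (RSpace.point Ω) X} {y : X.pt}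
    (hy : y ≤ f.fn PUnit.unit) :
    letI : Module (X.ring y) Ω := modF f hy
    Ω ≃ₗ[X.ring y] H (Coef.ofHom f y (f.wedge PUnit.unit y) (f.wedge_subset_pre PUnit.unit y))
      (RSpace.point Ω).str 0 := by
  letI : Module (X.ring y) Ω := modF f hy
  let W := f.wedge PUnit.unit y
  have hW : ∀ q : (RSpace.point Ω).pt, q ∈ W := fun q => ⟨le_refl _, hy⟩
  let φ := Coef.ofHom f y W (f.wedge_subset_pre PUnit.unit y)
  let toS : Ω → (RSpace.point Ω).str.sect W := fun x => ⟨fun q => x, fun q q' h => rfl⟩
  let e₀ : Ω ≃+ (RSpace.point Ω).str.sect W := by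
    refine AddEquiv.ofBijective (AddMonoidHom.mk' toS ?_) ⟨?_, ?_⟩
    · intro x y
      rfl
    · intro x y hxy
      exact congrFun (congrArg Subtype.val hxy) ⟨PUnit.unit, hW _⟩
    · intro t
      refine ⟨t.1 ⟨PUnit.unit, hW _⟩, ?_⟩
      apply Subtype.ext; funext q
      rfl
  exact (AddEquiv.toLinearEquiv (e₀.trans (h0Equiv φ (RSpace.point Ω).str)) (by
      intro r x
      change h0Equiv φ (RSpace.point Ω).str (toS (r • x)) = r • h0Equiv φ (RSpace.point Ω).str (toS x)
      apply h0Equiv_smul
      intro q
      rfl))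

lemma omegaEquiv_apply {f : SchFin.Hom (RSpace.point Ω) X} {y : X.pt}
    (hy : y ≤ f.fn PUnit.unit) (x : Ω) :
    omegaEquiv hy x = h0Equiv (Coef.ofHom f y (f.wedge PUnit.unit y) (f.wedge_subset_pre PUnit.unit y))
      (RSpace.point Ω).str ⟨fun _ => x, fun _ _ _ => rfl⟩ := rfl

/-- Criterion for a morphism from the spectrum of a field to be schematic. -/
theorem isSchematic_of_forall (hX : X.IsSchematic) (f : SchFin.Hom (RSpace.point Ω) X)
    (h : ∀ (y y' : X.pt) (hyy : y ≤ y') (hy : y ≤ f.fn PUnit.unit), ¬ y' ≤ f.fn PUnit.unit →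
      ∀ P : PrimeSpectrum (X.ring y'),
        (PrimeSpectrum.comap (X.res hyy) P).asIdeal ≠
          RingHom.ker ((f.app PUnit.unit).comp (X.res hy))) :
    f.IsSchematic := by
  refine ⟨⟨fun _ => (inferInstance : IsNoetherianRing Ω), fun _ _ _ => RingHom.Flat.id Ω⟩, hX.1, ?_⟩
  intro n x x' hx y y' hyy
  cases x
  cases x'
  refine ⟨isBCAlong_id_of_bijective (R := (RSpace.point Ω).ring PUnit.unit) _ (resH_bijective_self _ _ _ n), ?_⟩
  letI : Algebra (X.ring y) (X.ring y') := (X.res hyy).toAlgebra
  rcases n with _ | n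
  swap
  · exact isBCAlong_of_subsingleton _ _
      (subsingleton_tensor_right (subsingleton_H_of_subsingleton _ _ (inferInstanceAs (Subsingleton PUnit)) n))
      (subsingleton_H_of_subsingleton _ _ (inferInstanceAs (Subsingleton PUnit)) n)
  by_cases hy' : y' ≤ f.fn PUnit.unit
  · have hy : y ≤ f.fn PUnit.unit := hyy.trans hy'
    -- the module structures on Ω
    letI : Module (X.ring y) Ω := modF f hy
    letI : Module (X.ring y') Ω := modF f hy'
    have htoF : ∀ r : X.ring y, toF f hy' (X.res hyy r) = toF f hy r := fun r => by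
      change f.app PUnit.unit (X.res hy' (X.res hyy r)) = f.app PUnit.unit (X.res hy r)
      rw [X.res_comp]
    haveI : IsScalarTower (X.ring y) (X.ring y') Ω := IsScalarTower.of_algebraMap_smul fun r w => by
      change toF f hy' (X.res hyy r) * w = toF f hy r * w
      rw [htoF]
    have hepi : Algebra.IsEpi (X.ring y) (X.ring y') := isEpi_res hX hyy
    let g : Ω →ₛₗ[X.res hyy] Ω :=
      { toFun := id
        map_add' := fun _ _ => rfl
        map_smul' := fun r w => by
          change toF f hy r * w = toF f hy' (X.res hyy r) * w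
          rw [htoF] }
    have hg : IsBCAlong (X.res hyy) g :=
      isBCAlong_of_equiv (X.res hyy) g (TensorProduct.lid' (X.ring y) (X.ring y') Ω) (fun w => by
        exact one_smul (X.ring y') w)
    refine isBCAlong_transport (X.res hyy) (omegaEquiv hy) (omegaEquiv hy') ?_ hg
    intro w
    change omegaEquiv hy' w = _
    rw [omegaEquiv_apply, omegaEquiv_apply]
    symm
    apply resH_h0Equiv
    intro q
    rfl
  · have hempty : f.wedge PUnit.unit y' = ∅ := by
      ext q
      simp only [Set.mem_empty_iff_false, iff_false]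
      rintro ⟨_, h⟩
      exact hy' h
    refine isBCAlong_of_subsingleton _ _ ?_ (subsingleton_H_of_empty _ _ hempty 0)
    by_cases hy : y ≤ f.fn PUnit.unit
    · letI : Algebra (X.ring y) Ω := (toF f hy).toAlgebra
      have hss : Subsingleton (X.ring y' ⊗[X.ring y] Ω) := by
        rw [← not_nontrivial_iff_subsingleton]
        intro hnt
        obtain ⟨m, hm⟩ := Ideal.exists_maximal (X.ring y' ⊗[X.ring y] Ω)
        let T : PrimeSpectrum (X.ring y' ⊗[X.ring y] Ω) := ⟨m, hm.isPrime⟩
        let P : PrimeSpectrum (X.ring y') := PrimeSpectrum.comap Algebra.TensorProduct.includeLeftRingHom T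
        refine h y y' hyy hy hy' P ?_
        ext r
        change (X.res hyy r) ⊗ₜ[X.ring y] (1 : Ω) ∈ m ↔ toF f hy r = 0
        have e1 : (X.res hyy r) ⊗ₜ[X.ring y] (1 : Ω) = (1 : X.ring y') ⊗ₜ[X.ring y] (toF f hy r) := by
          have h1 : X.res hyy r = r • (1 : X.ring y') := by
            rw [Algebra.smul_def, mul_one]; rfl
          have h2 : toF f hy r = r • (1 : Ω) := by
            rw [Algebra.smul_def, mul_one]; rfl
          rw [h1, h2, TensorProduct.smul_tmul]
        rw [e1]
        constructor
        · intro hmem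
          by_contra hne
          have hu : IsUnit ((Algebra.TensorProduct.includeRight : Ω →ₐ[X.ring y] X.ring y' ⊗[X.ring y] Ω)
              (toF f hy r)) := (IsUnit.mk0 _ hne).map _
          exact hm.ne_top (Ideal.eq_top_of_isUnit_mem _ hmem hu)
        · intro h0
          rw [h0, TensorProduct.tmul_zero]
          exact m.zero_mem
      exact (TensorProduct.congr (LinearEquiv.refl (X.ring y) (X.ring y')) (omegaEquiv hy)).symm.toEquiv.subsingleton
    · have hempty' : f.wedge PUnit.unit y = ∅ := by
        ext q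
        simp only [Set.mem_empty_iff_false, iff_false]
        rintro ⟨_, h⟩
        exact hy h
      exact subsingleton_tensor_right (subsingleton_H_of_empty _ _ hempty' 0)

theorem existsUnique_geomPt (hX : X.IsSchematic) (hff : FF X) [IsAlgClosed Ω] (a : X.Pair)
    (ha : ∀ b : X.Pair, X.PairRel a b → b.1 ≤ a.1) (φ : a.κ →+* Ω) :
    ∃! ξ : GeomPt X Ω, (⟨ξ.base, ξ.toField⟩ : Σ x : X.pt, (X.ring x →+* Ω)) =
      ⟨a.1, φ.comp (algebraMap (X.ring a.1) a.κ)⟩ := by
  let f : SchFin.Hom (RSpace.point Ω) X := homPoint a.1 (φ.comp (algebraMap (X.ring a.1) a.κ))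
  have hf : f.IsSchematic := by
    refine isSchematic_of_forall hX f ?_
    intro y y' hyy hy hy' P hP
    have hrel : X.PairRel a ⟨y', P⟩ := by
      refine pairRel_of_comap_eq_comap hX hff (s := y) hy hyy a.2 P ?_
      apply PrimeSpectrum.ext
      rw [hP]
      ext r
      change X.res hy r ∈ a.2.asIdeal ↔ φ (algebraMap (X.ring a.1) a.κ (X.res hy r)) = 0
      rw [map_eq_zero, Ideal.algebraMap_residueField_eq_zero]
      exact Iff.rfl
    exact hy' (ha _ hrel)
  refine ⟨⟨f, hf⟩, rfl, ?_⟩
  rintro ⟨g, hg⟩ h
  have : g = f := hom_point_ext g f h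
  subst this
  rfl

end K868.SchFin
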