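import Groth.Prelude.Def_SchFin2
import Groth.Agent.SchFin.K868.AlgBasic
import Groth.Agent.SchFin.K868.FEtIdem
import Groth.Agent.SchFin.K868.Conn
import Mathlib.RingTheory.Etale.Finite
import Mathlib.RingTheory.Spectrum.Prime.FreeLocus

/-! # Ranks of étale covers and cardinalities of fibres -/

set_option autoImplicit false

universe u

open TensorProduct SchFin CategoryTheory Limits

namespace K868.SchFin

variable {X : RSpace.{u}}

/-- the rank of an étale cover at a point above -/
lemma rankAtStalk_res {A : Alg X} (hA : A.IsEtCover) {p q : X.pt} (h : p ≤ q)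
    (Q : PrimeSpectrum (X.ring q)) :
    Module.rankAtStalk (A.carrier q) Q =
      Module.rankAtStalk (A.carrier p) (PrimeSpectrum.comap (X.res h) Q) := by
  letI := ai (X := X) h
  obtain ⟨e, -⟩ := exists_bcAlgEquiv hA.1 h
  have h1 := (hA.2 p).1
  have h2 := (hA.2 p).2
  have h3 := (hA.2 q).1
  have h4 := (hA.2 q).2
  rw [← congrFun (Module.rankAtStalk_eq_of_equiv e.toLinearEquiv) Q]
  exact Module.rankAtStalk_baseChange (R := X.ring p) (M := A.carrier p) (S := X.ring q) Q

lemma rankAtStalk_const {A : Alg X} (hA : A.IsEtCover) (p : X.pt)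
    (hp : ConnectedSpace (PrimeSpectrum (X.ring p))) (P Q : PrimeSpectrum (X.ring p)) :
    Module.rankAtStalk (A.carrier p) P = Module.rankAtStalk (A.carrier p) Q := by
  have h1 := (hA.2 p).1
  have h2 := (hA.2 p).2
  have : Module.FinitePresentation (X.ring p) (A.carrier p) := .of_finite_of_finitePresentation ..
  exact (Module.isLocallyConstant_rankAtStalk (R := X.ring p) (M := A.carrier p)).apply_eq_of_preconnectedSpace P Q

/-- Over a well-connected space the rank of an étale cover is constant. -/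
theorem rankAtStalk_eq {A : Alg X} (hA : A.IsEtCover) (hX : X.IsWellConnected)
    (p q : X.pt) (P : PrimeSpectrum (X.ring p)) (Q : PrimeSpectrum (X.ring q)) :
    Module.rankAtStalk (A.carrier p) P = Module.rankAtStalk (A.carrier q) Q := by
  obtain ⟨h1, h2⟩ := (isWellConnected_iff X).1 hX
  let n := Module.rankAtStalk (A.carrier p) P
  have key := IsTopConnected.induct h1 (fun s => ∀ S : PrimeSpectrum (X.ring s),
    Module.rankAtStalk (A.carrier s) S = n) (fun s t hst => ?_) p q
  · exact ((key.1 fun S => rankAtStalk_const hA p (h2 p) S P) Q).symm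
  · constructor
    · intro hs T
      rw [rankAtStalk_res hA hst]
      exact hs _
    · intro ht S
      obtain ⟨T⟩ := (h2 t).toNonempty
      rw [rankAtStalk_const hA s (h2 s) S (PrimeSpectrum.comap (X.res hst) T), ← rankAtStalk_res hA hst]
      exact ht T

/-- the cardinality of the fibre of an étale cover is its rank at the image point -/
theorem card_fib {Ω : Type u} [Field Ω] [IsAlgClosed Ω] (ξ : GeomPt X Ω) {A : Alg X} (hA : A.IsEtCover) :
    Nat.card (ξ.Fib A) = Module.rankAtStalk (A.carrier ξ.base)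
      (PrimeSpectrum.comap ξ.toField (⊥ : PrimeSpectrum Ω)) := by
  letI : Algebra (X.ring ξ.base) Ω := ξ.toField.toAlgebra
  have h1 := (hA.2 ξ.base).1
  have h2 := (hA.2 ξ.base).2
  have h3 := Module.rankAtStalk_baseChange (R := X.ring ξ.base) (M := A.carrier ξ.base) (S := Ω) ⊥
  refine Eq.trans ?_ h3
  have h4 : Algebra.Etale Ω (Ω ⊗[X.ring ξ.base] A.carrier ξ.base) := inferInstance
  have h5 : Module.Finite Ω (Ω ⊗[X.ring ξ.base] A.carrier ξ.base) := inferInstance
  rw [Module.rankAtStalk_eq_finrank_of_free]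
  have h6 : IsArtinianRing (Ω ⊗[X.ring ξ.base] A.carrier ξ.base) := IsArtinianRing.of_finite Ω _
  let e := Algebra.FormallyEtale.equivPiOfIsSepClosed Ω (Ω ⊗[X.ring ξ.base] A.carrier ξ.base)
  have h7 := e.toLinearEquiv.finrank_eq
  have h8 : Fintype (PrimeSpectrum (Ω ⊗[X.ring ξ.base] A.carrier ξ.base)) := Fintype.ofFinite _
  rw [Module.finrank_fintype_fun_eq_card] at h7
  change Nat.card (PrimeSpectrum (Ω ⊗[X.ring ξ.base] A.carrier ξ.base)) =
    Module.finrank Ω (Ω ⊗[X.ring ξ.base] A.carrier ξ.base)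
  rw [h7, Nat.card_eq_fintype_card]

/-- a morphism of étale covers inducing a bijection on one geometric fibre is an isomorphism -/
theorem isIso_of_fibMap_bijective {Ω : Type u} [Field Ω] [IsAlgClosed Ω] (ξ : GeomPt X Ω)
    (hX : X.IsFinSp) (hwc : X.IsWellConnected) {A B : FEt X} (f : A ⟶ B)
    (hf : Function.Bijective (ξ.fibMap f.hom)) : IsIso f := by
  obtain ⟨e, he, hres, hker⟩ := exists_idem_family f.hom hX A.property B.property
  have hres' : ∀ {p q : X.pt} (h : p ≤ q), A.obj.res h (1 - e p) = 1 - e q := by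
    intro p q h
    rw [map_sub, map_one, hres h]
  have hD : (quotAlg A.obj (fun p => 1 - e p) hres').IsEtCover :=
    quotAlg_isEtCover hres' A.property (fun p => (he p).one_sub)
  have hempty : IsEmpty (ξ.Fib (quotAlg A.obj (fun p => 1 - e p) hres')) := by
    refine ⟨fun P => ?_⟩
    obtain ⟨Q, hQ⟩ := hf.2 (ξ.fibMap (quotProj hres') P)
    letI : Algebra (X.ring ξ.base) Ω := ξ.toField.toAlgebra
    let x1 : Ω ⊗[X.ring ξ.base] A.obj.carrier ξ.base := 1 ⊗ₜ e ξ.base
    let x2 : Ω ⊗[X.ring ξ.base] A.obj.carrier ξ.base := 1 ⊗ₜ (1 - e ξ.base)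
    have h1 : x1 ∈ PrimeSpectrum.asIdeal (R := Ω ⊗[X.ring ξ.base] A.obj.carrier ξ.base)
        (ξ.fibMap f.hom Q) := by
      change Algebra.TensorProduct.map (AlgHom.id Ω Ω) (f.hom.app ξ.base) x1 ∈
        PrimeSpectrum.asIdeal (R := Ω ⊗[X.ring ξ.base] B.obj.carrier ξ.base) Q
      rw [Algebra.TensorProduct.map_tmul, (hker ξ.base _).2 (he ξ.base).eq, tmul_zero]
      exact Ideal.zero_mem _
    have h2 : x2 ∈ PrimeSpectrum.asIdeal (R := Ω ⊗[X.ring ξ.base] A.obj.carrier ξ.base)
        (ξ.fibMap (quotProj hres') P) := by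
      change Algebra.TensorProduct.map (AlgHom.id Ω Ω) ((quotProj hres').app ξ.base) x2 ∈
        PrimeSpectrum.asIdeal (R := Ω ⊗[X.ring ξ.base]
          (quotAlg A.obj (fun p => 1 - e p) hres').carrier ξ.base) P
      rw [Algebra.TensorProduct.map_tmul]
      have : (quotProj hres').app ξ.base (1 - e ξ.base) = 0 :=
        Ideal.Quotient.eq_zero_iff_mem.2 (Ideal.mem_span_singleton_self _)
      rw [this, tmul_zero]
      exact Ideal.zero_mem _
    rw [hQ] at h1
    have h3 := Ideal.add_mem _ h1 h2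
    have h4 : x1 + x2 = 1 := by
      change (1 : Ω) ⊗ₜ[X.ring ξ.base] e ξ.base + 1 ⊗ₜ (1 - e ξ.base) = 1
      rw [← tmul_add, add_sub_cancel]
      rfl
    rw [h4] at h3
    exact (PrimeSpectrum.isPrime _).ne_top ((Ideal.eq_top_iff_one _).2 h3)
  have hz : ∀ p : X.pt, e p = 0 := by
    intro p
    have h1 := (hD.2 p).1
    have h2 := (hD.2 p).2
    have h3 : Module.rankAtStalk (R := X.ring p)
        ((quotAlg A.obj (fun p => 1 - e p) hres').carrier p) = 0 := by
      funext P
      rw [rankAtStalk_eq hD hwc p ξ.base P (PrimeSpectrum.comap ξ.toField ⊥), ← card_fib ξ hD]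
      exact Nat.card_eq_zero.2 (Or.inl hempty)
    have h4 := Module.rankAtStalk_eq_zero_iff_subsingleton.1 h3
    have h5 : (Ideal.Quotient.mk (Ideal.span {1 - e p}) (e p)) = 0 := h4.elim _ _
    rw [Ideal.Quotient.eq_zero_iff_mem, Ideal.mem_span_singleton] at h5
    obtain ⟨b, hb⟩ := h5
    calc e p = e p * e p := (he p).eq.symm
      _ = e p * ((1 - e p) * b) := by rw [← hb]
      _ = (e p - e p * e p) * b := by ring
      _ = 0 := by rw [(he p).eq, sub_self, zero_mul]
  refine isIso_of_injective_of_rank f (fun p => ?_) (fun p P => ?_)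
  · refine (injective_iff_map_eq_zero _).2 fun a ha => ?_
    rw [← (hker p a).1 ha, hz p, zero_mul]
  · rw [rankAtStalk_eq A.property hwc p ξ.base P (PrimeSpectrum.comap ξ.toField ⊥),
      rankAtStalk_eq B.property hwc p ξ.base P (PrimeSpectrum.comap ξ.toField ⊥),
      ← card_fib ξ A.property, ← card_fib ξ B.property]
    exact (Nat.card_congr (Equiv.ofBijective _ hf)).symm

/-- the fibre functor of a well-connected space reflects isomorphisms -/
theorem reflectsIsomorphisms_fibFunctor {Ω : Type u} [Field Ω] [IsAlgClosed Ω] (ξ : GeomPt X Ω)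
    (hX : X.IsFinSp) (hwc : X.IsWellConnected) : ξ.fibFunctor.ReflectsIsomorphisms := by
  refine ⟨fun {A B} f hf => ?_⟩
  have h1 : Function.Bijective (ξ.fibMap f.unop.hom) := by
    have := (ConcreteCategory.isIso_iff_bijective (ξ.fibFunctor.map f)).1 hf
    exact this
  have := isIso_of_fibMap_bijective ξ hX hwc f.unop h1
  exact (isIso_unop_iff f).1 this

end K868.SchFin
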