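import Mathlib.RingTheory.Etale.Finite
import Mathlib.Algebra.Category.Ring.Constructions
import Mathlib.CategoryTheory.Limits.Shapes.Products
import Mathlib.CategoryTheory.Limits.Shapes.Equalizers

/-! # Recognizing limits and colimits of finite étale algebras -/

set_option autoImplicit false

universe u

open TensorProduct CategoryTheory Limits CommAlgCat

namespace K868.FE

variable {R : Type u} [CommRing R]

/-- underlying ring map -/
abbrev rg {A B : FiniteEtale.{u} R} (f : A ⟶ B) : CommRingCat.of A.obj ⟶ CommRingCat.of B.obj :=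
  CommRingCat.ofHom f.hom.hom.toRingHom

lemma hom_ext {A B : FiniteEtale.{u} R} {f g : A ⟶ B} (h : ∀ x : A.obj, f.hom.hom x = g.hom.hom x) :
    f = g := by
  apply ObjectProperty.hom_ext
  apply CommAlgCat.hom_ext
  exact AlgHom.ext h

/-- construct a morphism -/
def mkHom {A B : FiniteEtale.{u} R} (f : A.obj →ₐ[R] B.obj) : A ⟶ B :=
  ObjectProperty.homMk (CommAlgCat.ofHom f)

@[simp] lemma mkHom_apply {A B : FiniteEtale.{u} R} (f : A.obj →ₐ[R] B.obj) (x : A.obj) :
    (mkHom f).hom.hom x = f x := rfl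

lemma comp_apply {A B C : FiniteEtale.{u} R} (f : A ⟶ B) (g : B ⟶ C) (x : A.obj) :
    (f ≫ g).hom.hom x = g.hom.hom (f.hom.hom x) := rfl

theorem nonempty_isLimit_fan {ι : Type} {A : ι → FiniteEtale.{u} R} (P : FiniteEtale.{u} R)
    (π : ∀ i, P ⟶ A i) (h : Function.Bijective (fun (x : P.obj) i => (π i).hom.hom x)) :
    Nonempty (IsLimit (Fan.mk P π)) := by
  have hex : ∀ (T : FiniteEtale.{u} R) (g : ∀ i, T ⟶ A i), ∃! l : T ⟶ P, ∀ i, l ≫ π i = g i := by
    intro T g
    let e : P.obj ≃ₐ[R] (∀ i, (A i).obj) :=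
      AlgEquiv.ofBijective (AlgHom.pi fun i => (π i).hom.hom) h
    have he : ∀ (x : P.obj) i, e x i = (π i).hom.hom x := fun _ _ => rfl
    refine ⟨mkHom (e.symm.toAlgHom.comp (AlgHom.pi fun i => (g i).hom.hom)), fun i => ?_, fun l' hl' => ?_⟩
    · apply hom_ext
      intro b
      change (π i).hom.hom (e.symm (fun i => (g i).hom.hom b)) = (g i).hom.hom b
      rw [← he, AlgEquiv.apply_symm_apply]
    · apply hom_ext
      intro b
      change l'.hom.hom b = e.symm (fun i => (g i).hom.hom b)
      rw [AlgEquiv.eq_symm_apply]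
      funext i
      rw [he, ← hl' i]
      rfl
  choose l hl hu using fun (s : Fan A) => hex s.pt s.proj
  exact ⟨Fan.IsLimit.mk (Fan.mk P π) l (fun s i => hl s i) (fun s m hm => hu s m hm)⟩

theorem nonempty_isLimit_fork {A B E : FiniteEtale.{u} R} {f g : A ⟶ B} (i : E ⟶ A) (w : i ≫ f = i ≫ g)
    (h1 : Function.Injective i.hom.hom)
    (h2 : ∀ (x : A.obj), f.hom.hom x = g.hom.hom x → ∃ y, i.hom.hom y = x) :
    Nonempty (IsLimit (Fork.ofι i w)) := by
  have hex : ∀ (T : FiniteEtale.{u} R) (k : T ⟶ A), k ≫ f = k ≫ g → ∃! l : T ⟶ E, l ≫ i = k := by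
    intro T k hk
    have hk' : ∀ (x : T.obj), f.hom.hom (k.hom.hom x) = g.hom.hom (k.hom.hom x) := by
      intro x
      exact AlgHom.congr_fun (congrArg (fun t : T ⟶ B => t.hom.hom) hk) x
    choose l hl using fun (x : T.obj) => h2 (k.hom.hom x) (hk' x)
    let l' : T.obj →ₐ[R] E.obj :=
      { toFun := l
        map_one' := h1 (by rw [hl, map_one, map_one])
        map_mul' := fun x y => h1 (by rw [hl, map_mul, map_mul, hl, hl])
        map_zero' := h1 (by rw [hl, map_zero, map_zero])
        map_add' := fun x y => h1 (by rw [hl, map_add, map_add, hl, hl])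
        commutes' := fun r => h1 (by rw [hl, AlgHom.commutes, AlgHom.commutes]) }
    refine ⟨mkHom l', ?_, fun m hm => ?_⟩
    · apply hom_ext
      intro b
      exact hl b
    · apply hom_ext
      intro b
      apply h1
      change i.hom.hom (m.hom.hom b) = i.hom.hom (l b)
      rw [hl, ← hm]
      rfl
  choose l hl hu using fun (s : Fork f g) => hex s.pt s.ι s.condition
  exact ⟨Fork.IsLimit.mk (Fork.ofι i w) l (fun s => hl s) (fun s m hm => hu s m hm)⟩

theorem isPushout_of_rg {A B C D : FiniteEtale.{u} R} (f : A ⟶ B) (g : A ⟶ C) (i : B ⟶ D) (j : C ⟶ D)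
    (h : IsPushout (rg f) (rg g) (rg i) (rg j)) : IsPushout f g i j := by
  have w : f ≫ i = g ≫ j := by
    apply hom_ext
    intro b
    exact congrArg (fun k => k.hom b) h.w
  have hex : ∀ (T : FiniteEtale.{u} R) (s : B ⟶ T) (t : C ⟶ T), f ≫ s = g ≫ t →
      ∃! l : D ⟶ T, i ≫ l = s ∧ j ≫ l = t := by
    intro T s t hst
    have hst' : rg f ≫ rg s = rg g ≫ rg t := by
      ext b
      exact AlgHom.congr_fun (congrArg (fun k : A ⟶ T => k.hom.hom) hst) b
    let l : CommRingCat.of D.obj ⟶ CommRingCat.of T.obj := h.desc (rg s) (rg t) hst'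
    have hl1 : rg i ≫ l = rg s := h.inl_desc _ _ _
    have hl2 : rg j ≫ l = rg t := h.inr_desc _ _ _
    let l' : D.obj →ₐ[R] T.obj :=
      { l.hom with
        commutes' := fun r => by
          have h1 := congrArg (fun k => k.hom (algebraMap R B.obj r)) hl1
          change l.hom (algebraMap _ _ r) = _
          rw [← i.hom.hom.commutes]
          refine h1.trans ?_
          exact s.hom.hom.commutes r }
    refine ⟨mkHom l', ⟨?_, ?_⟩, fun m hm => ?_⟩
    · apply hom_ext
      intro b
      exact congrArg (fun k => k.hom b) hl1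
    · apply hom_ext
      intro b
      exact congrArg (fun k => k.hom b) hl2
    · have : rg m = l := by
        apply h.hom_ext
        · rw [hl1, ← hm.1]
          rfl
        · rw [hl2, ← hm.2]
          rfl
      apply hom_ext
      intro b
      exact congrArg (fun k => k.hom b) this
  refine ⟨⟨w⟩, ⟨PushoutCocone.IsColimit.mk w
    (fun s => (hex s.pt s.inl s.inr s.condition).choose)
    (fun s => (hex s.pt s.inl s.inr s.condition).choose_spec.1.1)
    (fun s => (hex s.pt s.inl s.inr s.condition).choose_spec.1.2)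
    (fun s m h1 h2 => (hex s.pt s.inl s.inr s.condition).choose_spec.2 m ⟨h1, h2⟩)⟩⟩

theorem nonempty_isInitial (A : FiniteEtale.{u} R) (h : Function.Bijective (algebraMap R A.obj)) :
    Nonempty (IsInitial A) := by
  let e : R ≃ₐ[R] A.obj := AlgEquiv.ofBijective (Algebra.ofId R A.obj) h
  refine ⟨IsInitial.ofUniqueHom (fun T => mkHom ((Algebra.ofId R T.obj).comp e.symm.toAlgHom)) ?_⟩
  intro T m
  apply hom_ext
  intro b
  obtain ⟨r, rfl⟩ := h.2 b
  rw [AlgHom.commutes, AlgHom.commutes]

end K868.FE
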