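import Groth.Prelude.Def_SchFin2
import Groth.Agent.SchFin.K868.FEtLimits
import Groth.Agent.SchFin.K868.FEtColimits
import Groth.Agent.SchFin.K868.FECriteria
import Mathlib.CategoryTheory.Limits.Preserves.Opposites
import Mathlib.CategoryTheory.Limits.Preserves.Shapes.Products
import Mathlib.CategoryTheory.Limits.Preserves.Shapes.Equalizers
import Mathlib.CategoryTheory.Limits.Preserves.Shapes.Pullbacks
import Mathlib.CategoryTheory.Limits.Preserves.Shapes.Terminal
import Mathlib.RingTheory.TensorProduct.Pi

/-! # The fibre functor preserves finite limits and colimits -/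

set_option autoImplicit false

universe u

open TensorProduct SchFin CategoryTheory Limits CommAlgCat

namespace K868.SchFin

variable {X : RSpace.{u}}

/-- evaluation of étale covers at a point -/
def evF (p : X.pt) : FEt X ⥤ FiniteEtale.{u} (X.ring p) where
  obj A := ⟨CommAlgCat.of _ (A.obj.carrier p), ⟨(A.property.2 p).1, (A.property.2 p).2⟩⟩
  map f := ObjectProperty.homMk (CommAlgCat.ofHom (f.hom.app p))

section

variable (p : X.pt) (S : Type u) [CommRing S] [Algebra (X.ring p) S]

/-- evaluation at a point followed by base change -/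
abbrev evBC : FEt X ⥤ FiniteEtale.{u} S :=
  evF p ⋙ FiniteEtale.baseChange.{u} (X.ring p) S

instance preservesFiniteProducts_evBC : PreservesFiniteProducts (evBC p S) := by
  refine ⟨fun n => ⟨fun {K} => ?_⟩⟩
  suffices h : ∀ A : Fin n → FEt X, PreservesLimit (Discrete.functor A) (evBC p S) from
    haveI := h (fun j => K.obj ⟨j⟩)
    preservesLimit_of_iso_diagram (evBC p S) Discrete.natIsoFunctor.symm
  intro A
  let P : FEt X := ⟨piAlg fun i => (A i).obj, piAlg_isEtCover _ fun i => (A i).property⟩
  let π : ∀ i, P ⟶ A i := fun i => ObjectProperty.homMk (piProj (fun i => (A i).obj) i)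
  obtain ⟨h⟩ := nonempty_isLimit_fan P π (fun p => ⟨fun x y hxy => hxy, fun x => ⟨x, rfl⟩⟩)
  have hb : Function.Bijective (fun (x : S ⊗[X.ring p] (∀ i, (A i).obj.carrier p)) i =>
      Algebra.TensorProduct.map (AlgHom.id S S)
        (Pi.evalAlgHom (X.ring p) (fun i => (A i).obj.carrier p) i) x) := by
    let e := Algebra.TensorProduct.piRight (X.ring p) S S (fun i => (A i).obj.carrier p)
    have he : ∀ x i, e x i = Algebra.TensorProduct.map (AlgHom.id S S)
        (Pi.evalAlgHom (X.ring p) (fun i => (A i).obj.carrier p) i) x := by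
      intro x i
      induction x using TensorProduct.induction_on with
      | zero => simp
      | tmul s a => rfl
      | add x y hx hy => rw [map_add, map_add, Pi.add_apply, hx, hy]
    have : (fun (x : S ⊗[X.ring p] (∀ i, (A i).obj.carrier p)) i =>
      Algebra.TensorProduct.map (AlgHom.id S S)
        (Pi.evalAlgHom (X.ring p) (fun i => (A i).obj.carrier p) i) x) = e := by
      funext x i
      exact (he x i).symm
    rw [this]
    exact e.bijective
  obtain ⟨h'⟩ := K868.FE.nonempty_isLimit_fan ((evBC p S).obj P) (fun i => (evBC p S).map (π i)) hb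
  exact preservesLimit_of_preserves_limit_cone h ((isLimitMapConeFanMkEquiv (evBC p S) A π).symm h')

instance preservesEqualizers_evBC : PreservesLimitsOfShape WalkingParallelPair (evBC p S) := by
  refine ⟨fun {K} => ?_⟩
  suffices h : ∀ {A B : FEt X} (f g : A ⟶ B), PreservesLimit (parallelPair f g) (evBC p S) from
    haveI := h (K.map WalkingParallelPairHom.left) (K.map WalkingParallelPairHom.right)
    preservesLimit_of_iso_diagram (evBC p S) (diagramIsoParallelPair K).symm
  intro A B f g
  let E : FEt X := ⟨eqAlg f.hom g.hom, eqAlg_isEtCover f.hom g.hom A.property B.property⟩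
  let i : E ⟶ A := ObjectProperty.homMk (eqIncl f.hom g.hom)
  have w : i ≫ f = i ≫ g := by
    apply ObjectProperty.hom_ext
    apply Alg.hom_ext
    intro p
    ext b
    exact b.2
  obtain ⟨h⟩ := nonempty_isLimit_fork i w (fun p => Subtype.val_injective)
    (fun p x hx => ⟨⟨x, hx⟩, rfl⟩)
  have k1 := (A.property.2 p).1
  have k2 := (A.property.2 p).2
  have k3 := (B.property.2 p).1
  have k4 := (B.property.2 p).2
  have hT := Groth.Agent.Pi1B.FEtEqualizer.tensorEqualizer_bijective (f.hom.app p) (g.hom.app p) S
  let T := (f.hom.app p).tensorEqualizer (X.ring p) S (g.hom.app p)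
  have hcoe : ∀ x, ((T x : _) : S ⊗[X.ring p] A.obj.carrier p) =
    Algebra.TensorProduct.map (AlgHom.id (X.ring p) S)
      (AlgHom.equalizer (f.hom.app p) (g.hom.app p)).val x :=
    fun x => AlgHom.coe_tensorEqualizer _ _ _ _ _
  obtain ⟨h'⟩ := K868.FE.nonempty_isLimit_fork (f := (evBC p S).map f) (g := (evBC p S).map g)
    ((evBC p S).map i) (by rw [← Functor.map_comp, w, Functor.map_comp])
    (fun x y hxy => hT.1 (Subtype.ext (by rw [hcoe, hcoe]; exact hxy)))
    (fun x hx => by
      obtain ⟨y, hy⟩ := hT.2 ⟨x, hx⟩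
      refine ⟨y, ?_⟩
      have := congrArg Subtype.val hy
      exact (hcoe y).symm.trans this)
  exact preservesLimit_of_preserves_limit_cone h ((isLimitMapConeForkEquiv (evBC p S) w).symm h')

instance preservesFiniteLimits_evBC : PreservesFiniteLimits (evBC p S) :=
  preservesFiniteLimits_of_preservesEqualizers_and_finiteProducts _

/-- base change squares are pushouts -/
lemma isPushout_bc {R : Type u} [CommRing R] (S : Type u) [CommRing S] [Algebra R S]
    {A B : Type u} [CommRing A] [CommRing B] [Algebra R A] [Algebra R B] (f : A →ₐ[R] B) :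
    IsPushout (CommRingCat.ofHom f.toRingHom)
      (CommRingCat.ofHom (Algebra.TensorProduct.includeRight : A →ₐ[R] S ⊗[R] A).toRingHom)
      (CommRingCat.ofHom (Algebra.TensorProduct.includeRight : B →ₐ[R] S ⊗[R] B).toRingHom)
      (CommRingCat.ofHom (Algebra.TensorProduct.map (AlgHom.id S S) f).toRingHom) := by
  have h1 := CommRingCat.isPushout_tensorProduct R S A
  have h2 := CommRingCat.isPushout_tensorProduct R S B
  refine (IsPushout.of_top (h₁₁ := CommRingCat.ofHom (algebraMap R S))
    (v₁₁ := CommRingCat.ofHom (algebraMap R A))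
    (v₂₁ := CommRingCat.ofHom f.toRingHom)
    (v₁₂ := CommRingCat.ofHom (Algebra.TensorProduct.includeLeftRingHom (R := R) (A := S) (B := A)))
    (v₂₂ := CommRingCat.ofHom (Algebra.TensorProduct.map (AlgHom.id S S) f).toRingHom) ?_ ?_ h1).flip
  · have e1 : CommRingCat.ofHom (algebraMap R A) ≫ CommRingCat.ofHom f.toRingHom =
        CommRingCat.ofHom (algebraMap R B) := by
      ext r
      exact f.commutes r
    have e2 : CommRingCat.ofHom (Algebra.TensorProduct.includeLeftRingHom (R := R) (A := S) (B := A)) ≫
        CommRingCat.ofHom (Algebra.TensorProduct.map (AlgHom.id S S) f).toRingHom =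
        CommRingCat.ofHom (Algebra.TensorProduct.includeLeftRingHom (R := R) (A := S) (B := B)) := by
      ext s
      change Algebra.TensorProduct.map (AlgHom.id S S) f (s ⊗ₜ 1) = s ⊗ₜ 1
      rw [Algebra.TensorProduct.map_tmul, map_one]
      rfl
    rw [e1, e2]
    exact h2
  · ext a
    change Algebra.TensorProduct.map (AlgHom.id S S) f (1 ⊗ₜ a) = 1 ⊗ₜ f a
    rw [Algebra.TensorProduct.map_tmul]
    rfl

instance preservesPushouts_evBC : PreservesColimitsOfShape WalkingSpan (evBC p S) := by
  refine ⟨fun {K} => ?_⟩
  suffices h : ∀ {A B C : FEt X} (f : A ⟶ B) (g : A ⟶ C), PreservesColimit (span f g) (evBC p S) from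
    haveI := h (K.map WalkingSpan.Hom.fst) (K.map WalkingSpan.Hom.snd)
    preservesColimit_of_iso_diagram (evBC p S) (diagramIsoSpan K).symm
  intro A B C f g
  have h := isPushout_poF f g
  let i : B ⟶ poF f g := ObjectProperty.homMk (poInl f.hom g.hom)
  let j : C ⟶ poF f g := ObjectProperty.homMk (poInr f.hom g.hom)
  have P0 := isPushout_po f.hom g.hom p
  have h' : IsPushout ((evBC p S).map f) ((evBC p S).map g) ((evBC p S).map i) ((evBC p S).map j) := by
    apply K868.FE.isPushout_of_rg
    have h1 := P0.paste_vert (isPushout_bc S (j.hom.app p))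
    have w1 : fp g.hom p ≫ CommRingCat.ofHom
        (Algebra.TensorProduct.includeRight : C.obj.carrier p →ₐ[X.ring p] S ⊗[X.ring p] C.obj.carrier p).toRingHom =
        CommRingCat.ofHom
        (Algebra.TensorProduct.includeRight : A.obj.carrier p →ₐ[X.ring p] S ⊗[X.ring p] A.obj.carrier p).toRingHom ≫
        CommRingCat.ofHom (Algebra.TensorProduct.map (AlgHom.id S S) (g.hom.app p)).toRingHom :=
      (isPushout_bc S (g.hom.app p)).w
    have w2 : fp i.hom p ≫ CommRingCat.ofHom
        (Algebra.TensorProduct.includeRight : (poF f g).obj.carrier p →ₐ[X.ring p] S ⊗[X.ring p] (poF f g).obj.carrier p).toRingHom =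
        CommRingCat.ofHom
        (Algebra.TensorProduct.includeRight : B.obj.carrier p →ₐ[X.ring p] S ⊗[X.ring p] B.obj.carrier p).toRingHom ≫
        CommRingCat.ofHom (Algebra.TensorProduct.map (AlgHom.id S S) (i.hom.app p)).toRingHom :=
      (isPushout_bc S (i.hom.app p)).w
    have h2 : IsPushout (fp f.hom p) (CommRingCat.ofHom
        (Algebra.TensorProduct.includeRight : A.obj.carrier p →ₐ[X.ring p] S ⊗[X.ring p] A.obj.carrier p).toRingHom ≫
        CommRingCat.ofHom (Algebra.TensorProduct.map (AlgHom.id S S) (g.hom.app p)).toRingHom)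
        (CommRingCat.ofHom
        (Algebra.TensorProduct.includeRight : B.obj.carrier p →ₐ[X.ring p] S ⊗[X.ring p] B.obj.carrier p).toRingHom ≫
        CommRingCat.ofHom (Algebra.TensorProduct.map (AlgHom.id S S) (i.hom.app p)).toRingHom)
        (CommRingCat.ofHom (Algebra.TensorProduct.map (AlgHom.id S S) (j.hom.app p)).toRingHom) := by
      rw [← w1, ← w2]
      exact h1
    refine IsPushout.of_top h2 ?_ (isPushout_bc S (f.hom.app p))
    have h5 : (evBC p S).map f ≫ (evBC p S).map i = (evBC p S).map g ≫ (evBC p S).map j := by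
      rw [← Functor.map_comp, ← Functor.map_comp]
      exact congrArg _ h.w
    exact congrArg (fun k => K868.FE.rg k) h5
  exact preservesColimit_of_preserves_colimit_cocone h.isColimit
    ((isColimitMapCoconePushoutCoconeEquiv (evBC p S) h.w).symm h'.isColimit)

instance preservesInitial_evBC : PreservesColimitsOfShape (Discrete.{0} PEmpty) (evBC p S) := by
  obtain ⟨h'⟩ := K868.FE.nonempty_isInitial ((evBC p S).obj (strF X)) (by
    let e : S ⊗[X.ring p] X.ring p ≃ₐ[S] S := Algebra.TensorProduct.rid (X.ring p) S S
    have : (algebraMap S (S ⊗[X.ring p] X.ring p) : S → _) = e.symm := by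
      funext s
      rw [AlgEquiv.eq_symm_apply]
      exact e.commutes s
    change Function.Bijective (algebraMap S (S ⊗[X.ring p] X.ring p))
    rw [this]
    exact e.symm.bijective)
  haveI : PreservesColimit (Functor.empty.{0} (FEt X)) (evBC p S) :=
    preservesColimit_of_preserves_colimit_cocone (isInitialStrF X)
      ((isColimitMapCoconeEmptyCoconeEquiv (evBC p S) (strF X)).symm h')
  exact preservesColimitsOfShape_pempty_of_preservesInitial (evBC p S)

instance preservesFiniteColimits_evBC : PreservesFiniteColimits (evBC p S) :=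
  preservesFiniteColimits_of_preservesInitial_and_pushouts _

end

section Fib

variable {Ω : Type u} [Field Ω] [IsAlgClosed Ω] (ξ : GeomPt X Ω)

/-- the base change of étale covers along a geometric point -/
def baseF : FEt X ⥤ FiniteEtale.{u} Ω :=
  letI : Algebra (X.ring ξ.base) Ω := ξ.toField.toAlgebra
  evBC ξ.base Ω

/-- The fibre functor as a composite. -/
def fibIso : ξ.fibFunctor ≅ (baseF ξ).op ⋙ FiniteEtale.finiteSpec Ω :=
  NatIso.ofComponents (fun A => Iso.refl _) (fun {A B} f => by
    apply InducedCategory.hom_ext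
    rfl)

instance preservesFiniteLimits_baseF : PreservesFiniteLimits (baseF ξ) :=
  letI : Algebra (X.ring ξ.base) Ω := ξ.toField.toAlgebra
  preservesFiniteLimits_evBC ξ.base Ω

instance preservesFiniteColimits_baseF : PreservesFiniteColimits (baseF ξ) :=
  letI : Algebra (X.ring ξ.base) Ω := ξ.toField.toAlgebra
  preservesFiniteColimits_evBC ξ.base Ω

instance preservesFiniteLimits_fibFunctor : PreservesFiniteLimits ξ.fibFunctor := by
  haveI : PreservesFiniteLimits (baseF ξ).op := preservesFiniteLimits_op _
  haveI : PreservesFiniteLimits (FiniteEtale.finiteSpec.{u} Ω) := inferInstance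
  haveI : PreservesFiniteLimits ((baseF ξ).op ⋙ FiniteEtale.finiteSpec.{u} Ω) :=
    comp_preservesFiniteLimits _ _
  exact ⟨fun J _ _ => preservesLimitsOfShape_of_natIso (fibIso ξ).symm⟩

instance preservesFiniteColimits_fibFunctor : PreservesFiniteColimits ξ.fibFunctor := by
  haveI : PreservesFiniteColimits (baseF ξ).op := preservesFiniteColimits_op _
  haveI : PreservesFiniteColimits (FiniteEtale.finiteSpec.{u} Ω) := inferInstance
  haveI : PreservesFiniteColimits ((baseF ξ).op ⋙ FiniteEtale.finiteSpec.{u} Ω) :=
    comp_preservesFiniteColimits _ _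
  exact ⟨fun J _ _ => preservesColimitsOfShape_of_natIso (fibIso ξ).symm⟩

/-- the fibre functor preserves terminal objects, pullbacks, finite coproducts and epimorphisms -/
theorem fibFunctor_preserves :
    PreservesLimitsOfShape (Discrete PEmpty.{1}) ξ.fibFunctor ∧
      PreservesLimitsOfShape WalkingCospan ξ.fibFunctor ∧
      PreservesFiniteCoproducts ξ.fibFunctor ∧ ξ.fibFunctor.PreservesEpimorphisms :=
  ⟨inferInstance, inferInstance, inferInstance, inferInstance⟩

end Fib

end K868.SchFin
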