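import Groth.Prelude.Def_SchFin2
import Groth.Agent.SchFin.K868.FibFunctor
import Groth.Agent.SchFin.K868.FibRank
import Mathlib.CategoryTheory.Galois.Basic
import Mathlib.CategoryTheory.Limits.Opposites

/-! # The opposite of the category of étale covers is a Galois category -/

set_option autoImplicit false

universe u

open TensorProduct SchFin CategoryTheory Limits

namespace K868.SchFin

variable {X : RSpace.{u}}

theorem hasColimitsOfShape_singleObj (C : Type*) [Category C] [HasFiniteColimits C]
    (G : Type*) [Group G] [Finite G] :
    HasColimitsOfShape (SingleObj G) C := by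
  obtain ⟨G', hg, hf, ⟨e⟩⟩ := Finite.exists_type_univ_nonempty_mulEquiv.{_, 0} G
  have : Fintype G' := Fintype.ofFinite G'
  have : FinCategory (SingleObj G') := { }
  exact Limits.hasColimitsOfShape_of_equivalence e.toSingleObjEquiv.symm

theorem preservesColimitsOfShape_singleObj {C D : Type*} [Category C] [Category D] (F : C ⥤ D)
    [PreservesFiniteColimits F] (G : Type*) [Group G] [Finite G] :
    PreservesColimitsOfShape (SingleObj G) F := by
  obtain ⟨G', hg, hf, ⟨e⟩⟩ := Finite.exists_type_univ_nonempty_mulEquiv.{_, 0} G
  have : Fintype G' := Fintype.ofFinite G'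
  have : FinCategory (SingleObj G') := { }
  exact Limits.preservesColimitsOfShape_of_equiv e.toSingleObjEquiv.symm F

instance hasFiniteColimits : HasFiniteColimits (FEt X) :=
  hasFiniteColimits_of_hasInitial_and_pushouts

instance hasFiniteColimits_op : HasFiniteColimits (FEt X)ᵒᵖ := inferInstance

instance hasFiniteLimits_op : HasFiniteLimits (FEt X)ᵒᵖ := inferInstance

/-- the opposite of the category of étale covers is a pre-Galois category -/
theorem preGaloisCategory (hX : X.IsFinSp)
    (hepi : ∀ (A B : FEt X) (f : A ⟶ B), Epi f → ∀ p : X.pt, Function.Surjective (f.hom.app p)) :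
    PreGaloisCategory (FEt X)ᵒᵖ where
  hasTerminal := inferInstance
  hasPullbacks := inferInstance
  hasFiniteCoproducts := inferInstance
  hasQuotientsByFiniteGroups G _ _ := hasColimitsOfShape_singleObj _ G
  monoInducesIsoOnDirectSummand {A B} i hi := by
    obtain ⟨D, π, ⟨h⟩⟩ := exists_isLimit_binaryFan hX i.unop (hepi _ _ i.unop inferInstance)
    exact ⟨Opposite.op D, π.op, ⟨BinaryFan.IsLimit.op h⟩⟩

/-- the fibre functor at a geometric point is a fibre functor -/
theorem fiberFunctor {Ω : Type u} [Field Ω] [IsAlgClosed Ω] (ξ : GeomPt X Ω) (hX : X.IsFinSp)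
    (hwc : X.IsWellConnected) (h : PreGaloisCategory (FEt X)ᵒᵖ) :
    PreGaloisCategory.FiberFunctor ξ.fibFunctor where
  preservesTerminalObjects := inferInstance
  preservesPullbacks := inferInstance
  preservesFiniteCoproducts := inferInstance
  preservesEpis := inferInstance
  preservesQuotientsByFiniteGroups G _ _ := preservesColimitsOfShape_singleObj _ G
  reflectsIsos := reflectsIsomorphisms_fibFunctor ξ hX hwc

end K868.SchFin
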