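import Groth.Prelude.Def_SchFin
import Groth.Agent.SchFin.K868.Conn

/-! # Maps of constant algebras over connected rings -/

set_option autoImplicit false

universe u

open SchFin

namespace K868.SchFin

/-- over a ring with only trivial idempotents an algebra map `R^F → R` is an evaluation -/
lemma exists_eval_of_connected {R : Type u} [CommRing R] [Nontrivial R]
    (hR : ∀ e : R, IsIdempotentElem e → e = 0 ∨ e = 1) {F : Type*} [Finite F]
    (φ : (F → R) →ₐ[R] R) : ∃ i : F, ∀ g : F → R, φ g = g i := by
  classical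
  have := Fintype.ofFinite F
  have hid : ∀ i : F, IsIdempotentElem (φ (Pi.single i 1)) := fun i => by
    rw [IsIdempotentElem, ← map_mul, ← Pi.single_mul, one_mul]
  have hsum : ∑ i : F, φ (Pi.single i 1) = 1 := by
    rw [← map_sum, Finset.univ_sum_single (fun _ : F => (1 : R))]
    exact map_one φ
  have hex : ∃ i : F, φ (Pi.single i 1) = 1 := by
    by_contra h
    push Not at h
    have h0 : ∀ i : F, φ (Pi.single i 1) = 0 := fun i => (hR _ (hid i)).resolve_right (h i)
    simp only [h0, Finset.sum_const_zero] at hsum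
    exact zero_ne_one hsum
  obtain ⟨i, hi⟩ := hex
  refine ⟨i, fun g => ?_⟩
  have h1 : φ g = φ g * φ (Pi.single i 1) := by rw [hi, mul_one]
  rw [h1, ← map_mul]
  have h2 : g * Pi.single i 1 = g i • (Pi.single i 1 : F → R) := by
    funext j
    by_cases hj : j = i
    · subst hj; simp
    · simp [Pi.single_eq_of_ne hj]
  rw [h2, map_smul, hi, smul_eq_mul, mul_one]

lemma eval_unique {R : Type u} [CommRing R] [Nontrivial R] {F : Type*} {i j : F}
    (h : ∀ g : F → R, g i = g j) : i = j := by
  classical
  by_contra hne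
  have := h (Pi.single i 1)
  rw [Pi.single_eq_same, Pi.single_eq_of_ne (Ne.symm hne)] at this
  exact one_ne_zero this

theorem exists_map_of_algHom_pi (X : RSpace.{u}) (hW : X.IsWellConnected) (F E : Type) [Finite F] [Finite E]
    (f : ∀ p : X.pt, (F → X.ring p) →ₐ[X.ring p] (E → X.ring p))
    (hf : ∀ (p q : X.pt) (h : p ≤ q) (g : F → X.ring p) (e : E),
      X.res h (f p g e) = f q (fun i => X.res h (g i)) e) :
    ∃ φ : E → F, ∀ (p : X.pt) (g : F → X.ring p) (e : E), f p g e = g (φ e) := by
  classical
  obtain ⟨htop, hpw⟩ := (isWellConnected_iff X).1 hW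
  have hnt : ∀ p, Nontrivial (X.ring p) := fun p => ((connectedSpace_primeSpectrum_iff _).1 (hpw p)).1
  have hex : ∀ (p : X.pt) (e : E), ∃ i : F, ∀ g : F → X.ring p, f p g e = g i := by
    intro p e
    exact exists_eval_of_connected ((connectedSpace_primeSpectrum_iff _).1 (hpw p)).2
      ((Pi.evalAlgHom (X.ring p) (fun _ : E => X.ring p) e).comp (f p))
  choose ψ hψ using hex
  obtain ⟨p₀⟩ := htop.1
  have hcompat : ∀ (e : E) (p q : X.pt), p ≤ q → ψ p e = ψ q e := by
    intro e p q hpq
    have key : ∀ g : F → X.ring p, X.res hpq (g (ψ p e)) = X.res hpq (g (ψ q e)) := by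
      intro g
      rw [← hψ p e g, hf p q hpq g e, hψ q e]
    by_contra hne
    have := key (Pi.single (ψ p e) 1)
    rw [Pi.single_eq_same, Pi.single_eq_of_ne (Ne.symm hne), map_one, map_zero] at this
    exact one_ne_zero this
  refine ⟨ψ p₀, fun p g e => ?_⟩
  have : ψ p₀ e = ψ p e := by
    have := (IsTopConnected.induct htop (fun p => ψ p e = ψ p₀ e)
      (fun a b hab => by rw [hcompat e a b hab]) p₀ p).1 rfl
    exact this.symm
  rw [hψ, this]

end K868.SchFin
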